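/-
Exact left adjoints of direct images along continuous functors of étale sites (`f⁻¹`, `w_!` and
their composites): calculus of unit sections, natural transformations, and comparison maps on Ext.
-/
import Groth.Agent.Sga4B.DiagB
import Groth.Agent.Sga4B.EUConst
import Groth.Agent.EtpbcB.BCCalc

set_option autoImplicit false
set_option linter.dupNamespace false
universe u
open CategoryTheory CategoryTheory.Limits AlgebraicGeometry Opposite Abelian
open Groth.Agent.Sga4B.DualShape
open scoped Groth.Agent.Etcore.EtInst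
open Groth.Agent.Etcore.EtInst

namespace Groth.Agent.Etdl.H440.CF

noncomputable section

/-- An exact left adjoint of the direct image along a continuous functor of étale sites. -/
structure CF (P Y : Scheme.{u}) where
  /-- the functor of étale sites -/
  v : P.Etale ⥤ Y.Etale
  cont : v.IsContinuous P.smallEtaleTopology Y.smallEtaleTopology
  /-- the left adjoint -/
  L : EtCoh.Ab P ⥤ EtCoh.Ab Y
  /-- the adjunction -/
  adj : L ⊣ v.sheafPushforwardContinuous AddCommGrpCat.{u + 1} P.smallEtaleTopology
    Y.smallEtaleTopology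
  add : L.Additive
  pfl : PreservesFiniteLimits L
  pfc : PreservesFiniteColimits L

variable {P Y Z : Scheme.{u}}

instance (A : CF P Y) : A.v.IsContinuous P.smallEtaleTopology Y.smallEtaleTopology := A.cont
instance (A : CF P Y) : A.L.Additive := A.add
instance (A : CF P Y) : PreservesFiniteLimits A.L := A.pfl
instance (A : CF P Y) : PreservesFiniteColimits A.L := A.pfc

namespace CF

/-- The unit section. -/
def un (A : CF P Y) {F : EtCoh.Ab P} {U : P.Etale} (s : EtCoh.sect F U) :
    EtCoh.sect (A.L.obj F) (A.v.obj U) :=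
  (A.adj.unit.app F).hom.app (op U) s

theorem un_zero (A : CF P Y) (F : EtCoh.Ab P) (U : P.Etale) :
    A.un (0 : EtCoh.sect F U) = 0 := map_zero ((A.adj.unit.app F).hom.app (op U)).hom

theorem un_add (A : CF P Y) {F : EtCoh.Ab P} {U : P.Etale} (s t : EtCoh.sect F U) :
    A.un (s + t) = A.un s + A.un t := map_add ((A.adj.unit.app F).hom.app (op U)).hom s t

theorem un_res (A : CF P Y) {F : EtCoh.Ab P} {U V : P.Etale} (g : V ⟶ U) (s : EtCoh.sect F U) :
    A.un (F.obj.map g.op s) = (A.L.obj F).obj.map (A.v.map g).op (A.un s) :=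
  ConcreteCategory.congr_hom ((A.adj.unit.app F).hom.naturality g.op) s

theorem map_un (A : CF P Y) {F G : EtCoh.Ab P} (φ : F ⟶ G) {U : P.Etale} (s : EtCoh.sect F U) :
    (A.L.map φ).hom.app (op (A.v.obj U)) (A.un s) = A.un (φ.hom.app (op U) s) :=
  (congrArg (fun k => k.hom.app (op U) s) (A.adj.unit.naturality φ)).symm

theorem hom_ext (A : CF P Y) {F : EtCoh.Ab P} {H : EtCoh.Ab Y} {f g : A.L.obj F ⟶ H}
    (h : ∀ (U : P.Etale) (s : EtCoh.sect F U),
      f.hom.app (op (A.v.obj U)) (A.un s) = g.hom.app (op (A.v.obj U)) (A.un s)) : f = g := by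
  apply (A.adj.homEquiv _ _).injective
  rw [Adjunction.homEquiv_unit, Adjunction.homEquiv_unit]
  apply EtpbcB.BCCalc.ab_hom_ext
  intro U
  ext s
  exact h U s

/-- Morphisms out of `L F`. -/
def desc (A : CF P Y) {F : EtCoh.Ab P} {H : EtCoh.Ab Y}
    (φ : F ⟶ (A.v.sheafPushforwardContinuous AddCommGrpCat.{u + 1} P.smallEtaleTopology
      Y.smallEtaleTopology).obj H) : A.L.obj F ⟶ H :=
  (A.adj.homEquiv _ _).symm φ

theorem desc_un (A : CF P Y) {F : EtCoh.Ab P} {H : EtCoh.Ab Y}
    (φ : F ⟶ (A.v.sheafPushforwardContinuous AddCommGrpCat.{u + 1} P.smallEtaleTopology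
      Y.smallEtaleTopology).obj H) {U : P.Etale} (s : EtCoh.sect F U) :
    (A.desc φ).hom.app (op (A.v.obj U)) (A.un s) = φ.hom.app (op U) s := by
  have h := (A.adj.homEquiv _ _).apply_symm_apply φ
  rw [Adjunction.homEquiv_unit] at h
  exact congrArg (fun k => k.hom.app (op U) s) h

/-- Composition. -/
def comp (A : CF P Y) (B : CF Y Z) : CF P Z where
  v := A.v ⋙ B.v
  cont := Functor.isContinuous_comp A.v B.v P.smallEtaleTopology Y.smallEtaleTopology
    Z.smallEtaleTopology
  L := A.L ⋙ B.L
  adj := A.adj.comp B.adj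
  add := inferInstance
  pfl := comp_preservesFiniteLimits _ _
  pfc := comp_preservesFiniteColimits _ _

theorem comp_un (A : CF P Y) (B : CF Y Z) {F : EtCoh.Ab P} {U : P.Etale} (s : EtCoh.sect F U) :
    (A.comp B).un s = B.un (A.un s) := by
  have h : (A.adj.comp B.adj).unit.app F = A.adj.unit.app F ≫
      (A.v.sheafPushforwardContinuous AddCommGrpCat.{u + 1} P.smallEtaleTopology
        Y.smallEtaleTopology).map (B.adj.unit.app (A.L.obj F)) :=
    Adjunction.comp_unit_app _ _ _
  exact congrArg (fun k => k.hom.app (op U) s) h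

/-- The identity. -/
def id (X : Scheme.{u}) : CF X X where
  v := 𝟭 _
  cont := inferInstance
  L := 𝟭 _
  adj := Adjunction.id
  add := inferInstance
  pfl := inferInstance
  pfc := inferInstance

theorem id_un {X : Scheme.{u}} {F : EtCoh.Ab X} {U : X.Etale} (s : EtCoh.sect F U) :
    (CF.id X).un s = s := rfl

/-- Restriction along a natural transformation of functors of sites. -/
def resN {v v' : P.Etale ⥤ Y.Etale} [v.IsContinuous P.smallEtaleTopology Y.smallEtaleTopology]
    [v'.IsContinuous P.smallEtaleTopology Y.smallEtaleTopology] (θ : v' ⟶ v) :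
    v.sheafPushforwardContinuous AddCommGrpCat.{u + 1} P.smallEtaleTopology Y.smallEtaleTopology ⟶
    v'.sheafPushforwardContinuous AddCommGrpCat.{u + 1} P.smallEtaleTopology
      Y.smallEtaleTopology where
  app H := ⟨{ app := fun U => H.obj.map (θ.app U.unop).op
              naturality := fun U V g => by
                have h := congrArg (fun k => H.obj.map k.op) (θ.naturality g.unop)
                rw [op_comp, op_comp, Functor.map_comp, Functor.map_comp] at h
                exact h.symm }⟩
  naturality H K φ := by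
    apply EtpbcB.BCCalc.ab_hom_ext
    intro U
    exact (φ.hom.naturality (θ.app U).op).symm

theorem resN_app {v v' : P.Etale ⥤ Y.Etale}
    [v.IsContinuous P.smallEtaleTopology Y.smallEtaleTopology]
    [v'.IsContinuous P.smallEtaleTopology Y.smallEtaleTopology] (θ : v' ⟶ v) (H : EtCoh.Ab Y)
    (U : P.Etale) : ((resN θ).app H).hom.app (op U) = H.obj.map (θ.app U).op := rfl

/-- The natural transformation of left adjoints attached to `θ`. -/
def trApp {A' A : CF P Y} (θ : A'.v ⟶ A.v) (F : EtCoh.Ab P) : A'.L.obj F ⟶ A.L.obj F :=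
  A'.desc (A.adj.unit.app F ≫ (resN θ).app (A.L.obj F))

theorem trApp_un {A' A : CF P Y} (θ : A'.v ⟶ A.v) {F : EtCoh.Ab P} {U : P.Etale}
    (s : EtCoh.sect F U) :
    (trApp θ F).hom.app (op (A'.v.obj U)) (A'.un s) =
      (A.L.obj F).obj.map (θ.app U).op (A.un s) :=
  A'.desc_un _ s

/-- The natural transformation of left adjoints attached to `θ`. -/
def tr {A' A : CF P Y} (θ : A'.v ⟶ A.v) : A'.L ⟶ A.L where
  app F := trApp θ F
  naturality F G φ := by
    apply A'.hom_ext
    intro U s
    have h1 : (A'.L.map φ ≫ trApp θ G).hom.app (op (A'.v.obj U)) (A'.un s) =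
        (A.L.obj G).obj.map (θ.app U).op (A.un (φ.hom.app (op U) s)) := by
      refine (congrArg ((trApp θ G).hom.app (op (A'.v.obj U))) (A'.map_un φ s)).trans ?_
      exact trApp_un θ _
    have h2 : (trApp θ F ≫ A.L.map φ).hom.app (op (A'.v.obj U)) (A'.un s) =
        (A.L.obj G).obj.map (θ.app U).op (A.un (φ.hom.app (op U) s)) := by
      refine (congrArg ((A.L.map φ).hom.app (op (A'.v.obj U))) (trApp_un θ s)).trans ?_
      refine (ConcreteCategory.congr_hom ((A.L.map φ).hom.naturality (θ.app U).op)
        (A.un s)).trans ?_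
      exact congrArg ((A.L.obj G).obj.map (θ.app U).op) (A.map_un φ s)
    exact h1.trans h2.symm

theorem tr_un {A' A : CF P Y} (θ : A'.v ⟶ A.v) {F : EtCoh.Ab P} {U : P.Etale}
    (s : EtCoh.sect F U) :
    ((tr θ).app F).hom.app (op (A'.v.obj U)) (A'.un s) =
      (A.L.obj F).obj.map (θ.app U).op (A.un s) :=
  trApp_un θ s

/-- `tr` of an isomorphism. -/
def trIso {A' A : CF P Y} (θ : A'.v ≅ A.v) : A'.L ≅ A.L where
  hom := tr θ.hom
  inv := tr θ.inv
  hom_inv_id := by
    ext F : 2
    apply A'.hom_ext
    intro U s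
    refine (congrArg (((tr θ.inv).app F).hom.app (op (A'.v.obj U))) (tr_un θ.hom s)).trans ?_
    refine (ConcreteCategory.congr_hom (((tr θ.inv).app F).hom.naturality (θ.hom.app U).op)
        (A.un s)).trans ?_
    refine (congrArg ((A'.L.obj F).obj.map (θ.hom.app U).op) (tr_un θ.inv s)).trans ?_
    have h : (A'.L.obj F).obj.map (θ.inv.app U).op ≫ (A'.L.obj F).obj.map (θ.hom.app U).op = 𝟙 _ := by
      rw [← Functor.map_comp, ← op_comp, θ.hom_inv_id_app]
      exact (A'.L.obj F).obj.map_id _
    exact ConcreteCategory.congr_hom h (A'.un s)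
  inv_hom_id := by
    ext F : 2
    apply A.hom_ext
    intro U s
    refine (congrArg (((tr θ.hom).app F).hom.app (op (A.v.obj U))) (tr_un θ.inv s)).trans ?_
    refine (ConcreteCategory.congr_hom (((tr θ.hom).app F).hom.naturality (θ.inv.app U).op)
        (A'.un s)).trans ?_
    refine (congrArg ((A.L.obj F).obj.map (θ.inv.app U).op) (tr_un θ.hom s)).trans ?_
    have h : (A.L.obj F).obj.map (θ.hom.app U).op ≫ (A.L.obj F).obj.map (θ.inv.app U).op = 𝟙 _ := by
      rw [← Functor.map_comp, ← op_comp, θ.inv_hom_id_app]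
      exact (A.L.obj F).obj.map_id _
    exact ConcreteCategory.congr_hom h (A.un s)

end CF

end

end Groth.Agent.Etdl.H440.CF
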