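/-
Comparison maps on Ext groups attached to the functors of `CF`: the class `cl A s u` of a section
`s` of `L B` over `R` and `u ∈ Ext^N(B, E)`, restriction `res` of classes in `Ext^N(ℤ[R], G)`.
-/
import Groth.Agent.Etdl.H440.CF

set_option autoImplicit false
set_option linter.dupNamespace false
universe u
open CategoryTheory CategoryTheory.Limits AlgebraicGeometry Opposite Abelian
open Groth.Agent.Sga4B.DualShape Groth.Agent.Sga4B.EUConst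
open scoped Groth.Agent.Etcore.EtInst
open Groth.Agent.Etcore.EtInst
open Groth.Agent.Etcore.ExtMap (extMap extMap_apply)

namespace Groth.Agent.Etdl.H440.CF

noncomputable section

variable {P Y Z W : Scheme.{u}}

/-! ### Morphisms out of `ℤ[R]` -/

/-- The morphism `ℤ[R] ⟶ G` attached to a section. -/
def sHom {G : EtCoh.Ab Y} {R : Y.Etale} (s : EtCoh.sect G R) : ZS R ⟶ G :=
  EtpbcA.Jshriek.lift R (zmultiplesHom _ s)

theorem sHom_jun {G : EtCoh.Ab Y} {R : Y.Etale} (s : EtCoh.sect G R) :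
    (sHom s).hom.app (op R) (jun ℤ R 1) = s := by
  refine (EtpbcA.Jshriek.lift_univ R (zmultiplesHom _ s) 1).trans ?_
  exact one_zsmul s

theorem ZS_hom_ext {G : EtCoh.Ab Y} {R : Y.Etale} {f g : ZS R ⟶ G}
    (h : f.hom.app (op R) (jun ℤ R 1) = g.hom.app (op R) (jun ℤ R 1)) : f = g := by
  apply JF_hom_ext
  intro m
  have hm : jun ℤ R m = m • jun ℤ R 1 := by
    have := map_zsmul (EtpbcA.Jshriek.univ R ℤ) m 1
    rw [smul_eq_mul, mul_one] at this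
    exact this
  rw [hm]
  refine (map_zsmul (f.hom.app (op R)).hom m _).trans ?_
  refine Eq.trans ?_ (map_zsmul (g.hom.app (op R)).hom m _).symm
  exact congrArg (m • ·) h

theorem eq_sHom {G : EtCoh.Ab Y} {R : Y.Etale} (f : ZS R ⟶ G) :
    f = sHom (f.hom.app (op R) (jun ℤ R 1)) := ZS_hom_ext (sHom_jun _).symm

theorem sHom_comp {G H : EtCoh.Ab Y} {R : Y.Etale} (s : EtCoh.sect G R) (f : G ⟶ H) :
    sHom s ≫ f = sHom (f.hom.app (op R) s) := by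
  apply ZS_hom_ext
  rw [sHom_jun]
  exact congrArg (f.hom.app (op R)) (sHom_jun s)

theorem ZSmap_sHom {G : EtCoh.Ab Y} {R R' : Y.Etale} (g : R' ⟶ R) (s : EtCoh.sect G R) :
    ZSmap g ≫ sHom s = sHom (G.obj.map g.op s) := by
  apply ZS_hom_ext
  rw [sHom_jun]
  refine (congrArg ((sHom s).hom.app (op R')) (jun_map ℤ g 1)).trans ?_
  refine (ConcreteCategory.congr_hom ((sHom s).hom.naturality g.op) (jun ℤ R 1)).trans ?_
  exact congrArg (G.obj.map g.op) (sHom_jun s)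

theorem ZSmap_eq {R R' : Y.Etale} (g : R' ⟶ R) :
    ZSmap g = sHom ((ZS R).obj.map g.op (jun ℤ R 1)) := by
  apply ZS_hom_ext
  rw [sHom_jun]
  exact jun_map ℤ g 1

namespace CF

variable (A : CF P Y) (B : CF Y Z)

/-! ### Restriction of classes -/

/-- The morphism `ℤ[R'] ⟶ L ℤ[R]` attached to `σ : R' ⟶ v R`. -/
def sg {R : Y.Etale} {R' : Z.Etale} (σ : R' ⟶ B.v.obj R) : ZS R' ⟶ B.L.obj (ZS R) :=
  sHom ((B.L.obj (ZS R)).obj.map σ.op (B.un (jun ℤ R 1)))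

theorem sg_map_sHom {R : Y.Etale} {R' : Z.Etale} (σ : R' ⟶ B.v.obj R) {G : EtCoh.Ab Y}
    (s : EtCoh.sect G R) : B.sg σ ≫ B.L.map (sHom s) =
      sHom ((B.L.obj G).obj.map σ.op (B.un s)) := by
  unfold sg
  rw [sHom_comp]
  congr 1
  refine (ConcreteCategory.congr_hom ((B.L.map (sHom s)).hom.naturality σ.op)
    (B.un (jun ℤ R 1))).trans ?_
  refine congrArg ((B.L.obj G).obj.map σ.op) ?_
  refine (B.map_un (sHom s) (jun ℤ R 1)).trans ?_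
  exact congrArg B.un (sHom_jun s)

/-- `Ext^N(ℤ[R], G) → Ext^N(ℤ[R'], L G)` for `σ : R' ⟶ v R`. -/
def res {R : Y.Etale} {R' : Z.Etale} (σ : R' ⟶ B.v.obj R) (G : EtCoh.Ab Y) (N : ℕ) :
    Ext.{u + 1} (ZS R) G N →+ Ext.{u + 1} (ZS R') (B.L.obj G) N :=
  extMap B.L (B.sg σ) G N

theorem res_apply {R : Y.Etale} {R' : Z.Etale} (σ : R' ⟶ B.v.obj R) (G : EtCoh.Ab Y) (N : ℕ)
    (x : Ext.{u + 1} (ZS R) G N) :
    B.res σ G N x = (Ext.mk₀ (B.sg σ)).comp (x.mapExactFunctor B.L) (zero_add N) := rfl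

theorem res_comp_mk₀ {R : Y.Etale} {R' : Z.Etale} (σ : R' ⟶ B.v.obj R) {G H : EtCoh.Ab Y}
    (φ : G ⟶ H) (N : ℕ) (x : Ext.{u + 1} (ZS R) G N) :
    B.res σ H N (x.comp (Ext.mk₀ φ) (add_zero N)) =
      (B.res σ G N x).comp (Ext.mk₀ (B.L.map φ)) (add_zero N) :=
  Etcore.ExtMap.extMap_comp_mk₀ B.L (B.sg σ) φ N x

theorem ZSmap_sg {R : Y.Etale} {R' R'' : Z.Etale} (σ : R' ⟶ B.v.obj R) (h : R'' ⟶ R') :
    ZSmap h ≫ B.sg σ = B.sg (h ≫ σ) := by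
  unfold sg
  rw [ZSmap_sHom]
  congr 1
  rw [op_comp, Functor.map_comp]
  rfl

theorem mk₀_comp_res {R : Y.Etale} {R' R'' : Z.Etale} (σ : R' ⟶ B.v.obj R) (h : R'' ⟶ R')
    (G : EtCoh.Ab Y) (N : ℕ) (x : Ext.{u + 1} (ZS R) G N) :
    (Ext.mk₀ (ZSmap h)).comp (B.res σ G N x) (zero_add N) = B.res (h ≫ σ) G N x := by
  rw [res_apply, res_apply, ← ZSmap_sg, ← Ext.mk₀_comp_mk₀, Ext.comp_assoc_of_second_deg_zero]

theorem sg_map_ZSmap {R R₁ : Y.Etale} {R' : Z.Etale} (σ : R' ⟶ B.v.obj R₁) (g : R₁ ⟶ R) :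
    B.sg σ ≫ B.L.map (ZSmap g) = B.sg (σ ≫ B.v.map g) := by
  rw [ZSmap_eq, sg_map_sHom]
  unfold sg
  congr 1
  rw [op_comp, Functor.map_comp]
  exact congrArg ((B.L.obj (ZS R)).obj.map σ.op) (B.un_res g (jun ℤ R 1))

theorem res_mk₀_comp {R R₁ : Y.Etale} {R' : Z.Etale} (σ : R' ⟶ B.v.obj R₁) (g : R₁ ⟶ R)
    (G : EtCoh.Ab Y) (N : ℕ) (x : Ext.{u + 1} (ZS R) G N) :
    B.res σ G N ((Ext.mk₀ (ZSmap g)).comp x (zero_add N)) = B.res (σ ≫ B.v.map g) G N x := by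
  rw [res_apply, res_apply, Ext.mapExactFunctor_comp, Ext.mapExactFunctor_mk₀,
    ← sg_map_ZSmap, ← Ext.mk₀_comp_mk₀, Ext.comp_assoc_of_second_deg_zero]

theorem sg_sg (C : CF Z W) {R : Y.Etale} {R' : Z.Etale} {R'' : W.Etale} (σ : R' ⟶ B.v.obj R)
    (τ : R'' ⟶ C.v.obj R') : C.sg τ ≫ C.L.map (B.sg σ) = (B.comp C).sg (τ ≫ C.v.map σ) := by
  refine (C.sg_map_sHom τ _).trans ?_
  unfold sg
  congr 1
  rw [comp_un, C.un_res]
  rw [op_comp, Functor.map_comp]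
  rfl

theorem res_res (C : CF Z W) {R : Y.Etale} {R' : Z.Etale} {R'' : W.Etale} (σ : R' ⟶ B.v.obj R)
    (τ : R'' ⟶ C.v.obj R') (G : EtCoh.Ab Y) (N : ℕ) (x : Ext.{u + 1} (ZS R) G N) :
    C.res τ (B.L.obj G) N (B.res σ G N x) = (B.comp C).res (τ ≫ C.v.map σ) G N x := by
  have i1 : PreservesFiniteLimits (B.L ⋙ C.L) := comp_preservesFiniteLimits _ _
  have i2 : PreservesFiniteColimits (B.L ⋙ C.L) := comp_preservesFiniteColimits _ _
  refine (Etcore.ExtMap.extMap_extMap B.L C.L (B.sg σ) (C.sg τ) G N x).trans ?_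
  rw [sg_sg]
  rfl

theorem sg_tr {B' B : CF Y Z} (θ : B'.v ⟶ B.v) {R : Y.Etale} {R' : Z.Etale}
    (σ : R' ⟶ B'.v.obj R) : B'.sg σ ≫ (tr θ).app (ZS R) = B.sg (σ ≫ θ.app R) := by
  unfold sg
  rw [sHom_comp]
  congr 1
  refine (ConcreteCategory.congr_hom (((tr θ).app (ZS R)).hom.naturality σ.op)
    (B'.un (jun ℤ R 1))).trans ?_
  rw [op_comp, Functor.map_comp]
  exact congrArg ((B.L.obj (ZS R)).obj.map σ.op) (tr_un θ (jun ℤ R 1))

theorem res_tr {B' B : CF Y Z} (θ : B'.v ⟶ B.v) {R : Y.Etale} {R' : Z.Etale}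
    (σ : R' ⟶ B'.v.obj R) (G : EtCoh.Ab Y) (N : ℕ) (x : Ext.{u + 1} (ZS R) G N) :
    (B'.res σ G N x).comp (Ext.mk₀ ((tr θ).app G)) (add_zero N) =
      B.res (σ ≫ θ.app R) G N x := by
  refine (Etcore.ExtMap.extMap_natTrans (tr θ) (B'.sg σ) G N x).trans ?_
  rw [sg_tr]
  rfl

/-! ### Classes -/

/-- The class attached to a section `s` of `L B` and `u ∈ Ext^N(B, E)`. -/
def cl {B' E : EtCoh.Ab P} {R : Y.Etale} (s : EtCoh.sect (A.L.obj B') R) (N : ℕ) :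
    Ext.{u + 1} B' E N →+ Ext.{u + 1} (ZS R) (A.L.obj E) N :=
  extMap A.L (sHom s) E N

theorem cl_apply {B' E : EtCoh.Ab P} {R : Y.Etale} (s : EtCoh.sect (A.L.obj B') R) (N : ℕ)
    (x : Ext.{u + 1} B' E N) :
    A.cl s N x = (Ext.mk₀ (sHom s)).comp (x.mapExactFunctor A.L) (zero_add N) := rfl

theorem cl_comp_mk₀ {B' E E' : EtCoh.Ab P} {R : Y.Etale} (s : EtCoh.sect (A.L.obj B') R) (N : ℕ)
    (φ : E ⟶ E') (x : Ext.{u + 1} B' E N) :
    A.cl s N (x.comp (Ext.mk₀ φ) (add_zero N)) =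
      (A.cl s N x).comp (Ext.mk₀ (A.L.map φ)) (add_zero N) :=
  Etcore.ExtMap.extMap_comp_mk₀ A.L (sHom s) φ N x

theorem cl_mk₀_comp {B' B'' E : EtCoh.Ab P} {R : Y.Etale} (s : EtCoh.sect (A.L.obj B') R) (N : ℕ)
    (b : B' ⟶ B'') (x : Ext.{u + 1} B'' E N) :
    A.cl s N ((Ext.mk₀ b).comp x (zero_add N)) =
      A.cl ((A.L.map b).hom.app (op R) s) N x := by
  rw [cl_apply, cl_apply, Ext.mapExactFunctor_comp, Ext.mapExactFunctor_mk₀, ← sHom_comp,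
    ← Ext.mk₀_comp_mk₀, Ext.comp_assoc_of_second_deg_zero]

theorem mk₀_comp_cl {B' E : EtCoh.Ab P} {R R' : Y.Etale} (s : EtCoh.sect (A.L.obj B') R) (N : ℕ)
    (g : R' ⟶ R) (x : Ext.{u + 1} B' E N) :
    (Ext.mk₀ (ZSmap g)).comp (A.cl s N x) (zero_add N) =
      A.cl ((A.L.obj B').obj.map g.op s) N x := by
  rw [cl_apply, cl_apply, ← ZSmap_sHom, ← Ext.mk₀_comp_mk₀, Ext.comp_assoc_of_second_deg_zero]

/-- Restriction of a class. -/
theorem res_cl {B' E : EtCoh.Ab P} {R : Y.Etale} (s : EtCoh.sect (A.L.obj B') R) (N : ℕ)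
    {R' : Z.Etale} (σ : R' ⟶ B.v.obj R) (x : Ext.{u + 1} B' E N) :
    B.res σ (A.L.obj E) N (A.cl s N x) =
      (A.comp B).cl ((B.L.obj (A.L.obj B')).obj.map σ.op (B.un s)) N x := by
  have i1 : PreservesFiniteLimits (A.L ⋙ B.L) := comp_preservesFiniteLimits _ _
  have i2 : PreservesFiniteColimits (A.L ⋙ B.L) := comp_preservesFiniteColimits _ _
  refine (Etcore.ExtMap.extMap_extMap A.L B.L (sHom s) (B.sg σ) E N x).trans ?_
  rw [sg_map_sHom]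
  rfl

/-- The class attached to a class of the form `κ ≫ L₀ u₀`. -/
theorem cl_extMap {P₀ : Scheme.{u}} (A₀ : CF P₀ P) {B₀ E₀ : EtCoh.Ab P₀} {B' : EtCoh.Ab P}
    {R : Y.Etale} (s : EtCoh.sect (A.L.obj B') R) (N : ℕ) (κ : B' ⟶ A₀.L.obj B₀)
    (x : Ext.{u + 1} B₀ E₀ N) :
    A.cl s N (extMap A₀.L κ E₀ N x) =
      (A₀.comp A).cl (B' := B₀) ((A.L.map κ).hom.app (op R) s) N x := by
  have i1 : PreservesFiniteLimits (A₀.L ⋙ A.L) := comp_preservesFiniteLimits _ _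
  have i2 : PreservesFiniteColimits (A₀.L ⋙ A.L) := comp_preservesFiniteColimits _ _
  refine (Etcore.ExtMap.extMap_extMap A₀.L A.L κ (sHom s) E₀ N x).trans ?_
  rw [sHom_comp]
  rfl

/-- Naturality in the functor. -/
theorem cl_tr {A' A : CF P Y} (θ : A'.v ⟶ A.v) {B' E : EtCoh.Ab P} {R : Y.Etale}
    (s : EtCoh.sect (A'.L.obj B') R) (N : ℕ) (x : Ext.{u + 1} B' E N) :
    (A'.cl s N x).comp (Ext.mk₀ ((tr θ).app E)) (add_zero N) =
      A.cl (((tr θ).app B').hom.app (op R) s) N x := by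
  refine (Etcore.ExtMap.extMap_natTrans (tr θ) (sHom s) E N x).trans ?_
  rw [sHom_comp]
  rfl

end CF

end

end Groth.Agent.Etdl.H440.CF
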