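/-
Classes with closed support, abstractly: gluing of a section of `L F` over `R` which is the unit
section on an open part and zero on the complement of a closed subset; base change of the class.
-/
import Groth.Agent.Etdl.H440.CFExt
import Groth.Agent.Etbase.EtGlue

set_option autoImplicit false
set_option linter.dupNamespace false
universe u
open CategoryTheory CategoryTheory.Limits AlgebraicGeometry Opposite Abelian
open Groth.Agent.Sga4B.DualShape Groth.Agent.Sga4B.EUConst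
open scoped Groth.Agent.Etcore.EtInst
open Groth.Agent.Etcore.EtInst
open Groth.Agent.Etcore.ExtMap (extMap extMap_apply)

namespace Groth.Agent.Etdl.H440.CF

noncomputable section

variable {P Y : Scheme.{u}}

/-- Gluing along two morphisms, sections form. -/
theorem existsUnique_glue_pair {X : Scheme.{u}} (F : EtCoh.Ab X) {R W R₀ : X.Etale} (m : W ⟶ R)
    (n : R₀ ⟶ R) [Mono n] (hc : Set.range m.left ∪ Set.range n.left = Set.univ)
    (s : EtCoh.sect F W) (t : EtCoh.sect F R₀)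
    (hss : ∀ (U : X.Etale) (a b : U ⟶ W), a ≫ m = b ≫ m → F.obj.map a.op s = F.obj.map b.op s)
    (hst : ∀ (U : X.Etale) (a : U ⟶ W) (b : U ⟶ R₀), a ≫ m = b ≫ n →
      F.obj.map a.op s = F.obj.map b.op t) :
    ∃! x : EtCoh.sect F R, F.obj.map m.op x = s ∧ F.obj.map n.op x = t := by
  let U : Bool → X.Etale := fun b => Bool.rec R₀ W b
  let f : ∀ b, U b ⟶ R := fun b => Bool.rec n m b
  let s' : ∀ b, EtCoh.sect F (U b) := fun b => Bool.rec t s b
  have hc' : ⋃ i, Set.range (f i).left = Set.univ := by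
    rw [← hc]
    ext x
    simp only [Set.mem_iUnion, Bool.exists_bool, Set.mem_union]
    exact or_comm
  obtain ⟨x, hx, hu⟩ := Etbase.EtGlue.existsUnique_glue F f hc' s' (by
    intro i j V gi gj hg
    cases i <;> cases j
    · have : gi = gj := (cancel_mono n).1 hg
      rw [this]
    · exact (hst V gj gi hg.symm).symm
    · exact hst V gi gj hg
    · exact hss V gi gj hg)
  refine ⟨x, ⟨hx true, hx false⟩, fun x' hx' => hu x' ?_⟩
  intro b
  cases b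
  · exact hx'.2
  · exact hx'.1

theorem ext_of_pair {X : Scheme.{u}} (F : EtCoh.Ab X) {R W R₀ : X.Etale} (m : W ⟶ R)
    (n : R₀ ⟶ R) (hc : Set.range m.left ∪ Set.range n.left = Set.univ)
    {x y : EtCoh.sect F R} (h1 : F.obj.map m.op x = F.obj.map m.op y)
    (h2 : F.obj.map n.op x = F.obj.map n.op y) : x = y := by
  let U : Bool → X.Etale := fun b => Bool.rec R₀ W b
  let f : ∀ b, U b ⟶ R := fun b => Bool.rec n m b
  refine Etbase.EtGlue.ext_of_cover F f ?_ ?_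
  · rw [← hc]
    ext x
    simp only [Set.mem_iUnion, Bool.exists_bool, Set.mem_union]
    exact or_comm
  · intro b
    cases b
    · exact h2
    · exact h1

theorem map_map {X : Scheme.{u}} (F : EtCoh.Ab X) {U V W : X.Etale} (g : V ⟶ U) (h : W ⟶ V)
    (s : EtCoh.sect F U) : F.obj.map h.op (F.obj.map g.op s) = F.obj.map (h ≫ g).op s := by
  rw [op_comp, Functor.map_comp]
  rfl

/-- Sections which agree locally are equal. -/
theorem ext_locally {X : Scheme.{u}} (F : EtCoh.Ab X) {U : X.Etale} {s t : EtCoh.sect F U}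
    (h : ∀ z : U.left, ∃ (V : X.Etale) (g : V ⟶ U), z ∈ Set.range g.left ∧
      F.obj.map g.op s = F.obj.map g.op t) : s = t := by
  choose V g hz hg using h
  refine Etbase.EtGlue.ext_of_cover F g ?_ hg
  ext z
  simp only [Set.mem_iUnion, Set.mem_univ, iff_true]
  exact ⟨z, hz z⟩

/-- A chart: `W` étale over `R` mapping to `v T`, the complement `R₀` of a closed subset
of `R`, over which the map to `v T` factors locally through `v O`; two points of `W` with the same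
image in `R` coincide or go to `v O`. -/
structure Chart (A : CF P Y) {O T : P.Etale} (o : O ⟶ T) (R : Y.Etale) where
  /-- the open part -/
  W : Y.Etale
  /-- the inclusion -/
  m : W ⟶ R
  /-- the map to `v T` -/
  lam : W ⟶ A.v.obj T
  /-- the complement of the support -/
  R₀ : Y.Etale
  /-- the inclusion -/
  n : R₀ ⟶ R
  mono_n : Mono n
  cov : Set.range m.left ∪ Set.range n.left = Set.univ
  van : ∀ (U : Y.Etale) (a : U ⟶ W) (b : U ⟶ R₀), a ≫ m = b ≫ n →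
    ∃ c : U ⟶ A.v.obj O, a ≫ lam = c ≫ A.v.map o
  agree : ∀ (U : Y.Etale) (a b : U ⟶ W), a ≫ m = b ≫ m → ∀ z : U.left,
    ∃ (V : Y.Etale) (g : V ⟶ U), z ∈ Set.range g.left ∧ (g ≫ a = g ≫ b ∨
      ∃ c d : V ⟶ A.v.obj O, g ≫ a ≫ lam = c ≫ A.v.map o ∧ g ≫ b ≫ lam = d ≫ A.v.map o)

namespace Chart

variable {A : CF P Y} {O T : P.Etale} {o : O ⟶ T} {R : Y.Etale} (D : Chart A o R)
  {F : EtCoh.Ab P} (b : EtCoh.sect F T)

theorem exists_gs (hb : F.obj.map o.op b = 0) :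
    ∃ s : EtCoh.sect (A.L.obj F) R, (A.L.obj F).obj.map D.m.op s =
      (A.L.obj F).obj.map D.lam.op (A.un b) ∧ (A.L.obj F).obj.map D.n.op s = 0 := by
  have := D.mono_n
  have h := A.un_res o b
  rw [hb, CF.un_zero] at h
  refine (existsUnique_glue_pair (A.L.obj F) D.m D.n D.cov
    ((A.L.obj F).obj.map D.lam.op (A.un b)) 0 ?_ ?_).exists
  · intro U a b' hab
    refine ext_locally _ (fun z => ?_)
    obtain ⟨V, g, hz, hg⟩ := D.agree U a b' hab z
    refine ⟨V, g, hz, ?_⟩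
    rcases hg with hg | ⟨c, d, hc, hd⟩
    · rw [map_map _ a g, map_map _ b' g, hg]
    · have e1 : (A.L.obj F).obj.map g.op ((A.L.obj F).obj.map a.op
          ((A.L.obj F).obj.map D.lam.op (A.un b))) = 0 := by
        rw [map_map _ D.lam a, map_map, hc, ← map_map, ← h, map_zero]
      have e2 : (A.L.obj F).obj.map g.op ((A.L.obj F).obj.map b'.op
          ((A.L.obj F).obj.map D.lam.op (A.un b))) = 0 := by
        rw [map_map _ D.lam b', map_map, hd, ← map_map, ← h, map_zero]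
      rw [e1, e2]
  · intro U a b' hab
    obtain ⟨c, hc⟩ := D.van U a b' hab
    rw [map_zero, map_map, hc, ← map_map, ← h, map_zero]

/-- The glued section. -/
def gs (hb : F.obj.map o.op b = 0) : EtCoh.sect (A.L.obj F) R := (D.exists_gs b hb).choose

theorem gs_m (hb : F.obj.map o.op b = 0) : (A.L.obj F).obj.map D.m.op (D.gs b hb) =
    (A.L.obj F).obj.map D.lam.op (A.un b) := (D.exists_gs b hb).choose_spec.1

theorem gs_n (hb : F.obj.map o.op b = 0) : (A.L.obj F).obj.map D.n.op (D.gs b hb) = 0 :=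
  (D.exists_gs b hb).choose_spec.2

end Chart

/-! ### The sheaf `ℤ[T] / ℤ[O]` -/

/-- `ℤ[T] / ℤ[O]`. -/
def ZQ {O T : P.Etale} (o : O ⟶ T) : EtCoh.Ab P := cokernel (ZSmap o)

/-- The projection `ℤ[T] ⟶ ℤ[T] / ℤ[O]`. -/
def ZQπ {O T : P.Etale} (o : O ⟶ T) : ZS T ⟶ ZQ o := cokernel.π (ZSmap o)

instance {O T : P.Etale} (o : O ⟶ T) : Epi (ZQπ o) := inferInstanceAs (Epi (coequalizer.π _ _))

theorem ZSmap_ZQπ {O T : P.Etale} (o : O ⟶ T) : ZSmap o ≫ ZQπ o = 0 := cokernel.condition _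

/-- The canonical section. -/
def qs {O T : P.Etale} (o : O ⟶ T) : EtCoh.sect (ZQ o) T :=
  (ZQπ o).hom.app (op T) (jun ℤ T 1)

theorem ZQπ_eq {O T : P.Etale} (o : O ⟶ T) : ZQπ o = sHom (qs o) := eq_sHom _

theorem qs_res {O T : P.Etale} (o : O ⟶ T) : (ZQ o).obj.map o.op (qs o) = 0 := by
  have h1 : ZSmap o ≫ sHom (qs o) = sHom ((ZQ o).obj.map o.op (qs o)) := ZSmap_sHom o (qs o)
  rw [← ZQπ_eq, ZSmap_ZQπ] at h1
  have h2 := congrArg (fun k => k.hom.app (op O) (jun ℤ O 1)) h1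
  have h3 : (sHom ((ZQ o).obj.map o.op (qs o))).hom.app (op O) (jun ℤ O 1) =
      (ZQ o).obj.map o.op (qs o) := sHom_jun _
  exact h3.symm.trans h2.symm

theorem ZQ_hom_ext {O T : P.Etale} (o : O ⟶ T) {G : EtCoh.Ab P} {f g : ZQ o ⟶ G}
    (h : f.hom.app (op T) (qs o) = g.hom.app (op T) (qs o)) : f = g := by
  rw [← cancel_epi (ZQπ o), ZQπ_eq, sHom_comp, sHom_comp, h]

/-- Morphisms out of `ℤ[T] / ℤ[O]`. -/
def qHom {O T : P.Etale} (o : O ⟶ T) {G : EtCoh.Ab P} (s : EtCoh.sect G T)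
    (hs : G.obj.map o.op s = 0) : ZQ o ⟶ G :=
  cokernel.desc _ (sHom s) (by
    rw [ZSmap_sHom, hs]
    apply ZS_hom_ext
    rw [sHom_jun]
    rfl)

theorem ZQπ_qHom {O T : P.Etale} (o : O ⟶ T) {G : EtCoh.Ab P} (s : EtCoh.sect G T)
    (hs : G.obj.map o.op s = 0) : ZQπ o ≫ qHom o s hs = sHom s := cokernel.π_desc _ _ _

theorem qHom_qs {O T : P.Etale} (o : O ⟶ T) {G : EtCoh.Ab P} (s : EtCoh.sect G T)
    (hs : G.obj.map o.op s = 0) : (qHom o s hs).hom.app (op T) (qs o) = s := by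
  have h := congrArg (fun k => k.hom.app (op T) (jun ℤ T 1)) (ZQπ_qHom o s hs)
  exact h.trans (sHom_jun s)

/-- The class of `u ∈ Ext^N(ℤ[T]/ℤ[O], E)` in `Ext^N(ℤ[R], L E)` attached to a chart. -/
def Chart.cl {A : CF P Y} {O T : P.Etale} {o : O ⟶ T} {R : Y.Etale} (D : Chart A o R)
    {E : EtCoh.Ab P} (N : ℕ) : Ext.{u + 1} (ZQ o) E N →+ Ext.{u + 1} (ZS R) (A.L.obj E) N :=
  A.cl (D.gs (qs o) (qs_res o)) N

/-! ### Base change of the class -/

section bc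

variable {P' Y' : Scheme.{u}} {A : CF P Y} {B : CF Y Y'} {A₀ : CF P P'} {A' : CF P' Y'}
  (θ : (A₀.comp A').v ⟶ (A.comp B).v) {O T : P.Etale} {o : O ⟶ T} {O' T' : P'.Etale}
  {o' : O' ⟶ T'} {R : Y.Etale} {R' : Y'.Etale} (D : Chart A o R) (D' : Chart A' o' R')
  (σ : R' ⟶ B.v.obj R) (τ : T' ⟶ A₀.v.obj T)

/-- `ℤ[T']/ℤ[O'] ⟶ L₀ (ℤ[T]/ℤ[O])`. -/
def kap (τ : T' ⟶ A₀.v.obj T) (τ₀ : O' ⟶ A₀.v.obj O) (hτ : τ₀ ≫ A₀.v.map o = o' ≫ τ) :
    ZQ o' ⟶ A₀.L.obj (ZQ o) :=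
  qHom o' ((A₀.L.obj (ZQ o)).obj.map τ.op (A₀.un (qs o))) (by
    rw [map_map, ← hτ, ← map_map]
    have h := A₀.un_res o (qs o)
    rw [qs_res, CF.un_zero] at h
    rw [← h, map_zero])

theorem kap_qs (τ₀ : O' ⟶ A₀.v.obj O) (hτ : τ₀ ≫ A₀.v.map o = o' ≫ τ) :
    (kap τ τ₀ hτ).hom.app (op T') (qs o') = (A₀.L.obj (ZQ o)).obj.map τ.op (A₀.un (qs o)) :=
  qHom_qs _ _ _

theorem gs_res (τ₀ : O' ⟶ A₀.v.obj O) (hτ : τ₀ ≫ A₀.v.map o = o' ≫ τ)
    (ω : D'.W ⟶ B.v.obj D.W) (hω : D'.m ≫ σ = ω ≫ B.v.map D.m)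
    (hlam : D'.lam ≫ A'.v.map τ ≫ θ.app T = ω ≫ B.v.map D.lam)
    (ρ : D'.R₀ ⟶ B.v.obj D.R₀) (hρ : D'.n ≫ σ = ρ ≫ B.v.map D.n) :
    (B.L.obj (A.L.obj (ZQ o))).obj.map σ.op (B.un (D.gs (qs o) (qs_res o))) =
      ((CF.tr θ).app (ZQ o)).hom.app (op R')
        ((A'.L.map (kap τ τ₀ hτ)).hom.app (op R') (D'.gs (qs o') (qs_res o'))) := by
  have nat1 : ∀ {U V : Y'.Etale} (g : V ⟶ U) (x : EtCoh.sect (A'.L.obj (A₀.L.obj (ZQ o))) U),
      (B.L.obj (A.L.obj (ZQ o))).obj.map g.op (((CF.tr θ).app (ZQ o)).hom.app (op U) x) =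
        ((CF.tr θ).app (ZQ o)).hom.app (op V)
          ((A'.L.obj (A₀.L.obj (ZQ o))).obj.map g.op x) := fun g x =>
    (ConcreteCategory.congr_hom (((CF.tr θ).app (ZQ o)).hom.naturality g.op) x).symm
  have nat2 : ∀ {U V : Y'.Etale} (g : V ⟶ U) (x : EtCoh.sect (A'.L.obj (ZQ o')) U),
      (A'.L.obj (A₀.L.obj (ZQ o))).obj.map g.op
        ((A'.L.map (kap τ τ₀ hτ)).hom.app (op U) x) =
        (A'.L.map (kap τ τ₀ hτ)).hom.app (op V) ((A'.L.obj (ZQ o')).obj.map g.op x) :=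
    fun g x => (ConcreteCategory.congr_hom ((A'.L.map (kap τ τ₀ hτ)).hom.naturality g.op) x).symm
  refine ext_of_pair _ D'.m D'.n D'.cov ?_ ?_
  · rw [map_map, hω, ← map_map]
    have h1 : (B.L.obj (A.L.obj (ZQ o))).obj.map (B.v.map D.m).op
        (B.un (D.gs (qs o) (qs_res o))) =
        (B.L.obj (A.L.obj (ZQ o))).obj.map (B.v.map D.lam).op (B.un (A.un (qs o))) := by
      refine (B.un_res D.m _).symm.trans ?_
      rw [D.gs_m]
      exact B.un_res D.lam _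
    rw [h1, map_map, ← hlam, nat1, nat2, D'.gs_m]
    have h2 : (A'.L.map (kap τ τ₀ hτ)).hom.app (op D'.W)
        ((A'.L.obj (ZQ o')).obj.map D'.lam.op (A'.un (qs o'))) =
        (A'.L.obj (A₀.L.obj (ZQ o))).obj.map (D'.lam ≫ A'.v.map τ).op
          (A'.un (A₀.un (qs o))) := by
      rw [← nat2]
      refine (congrArg _ (A'.map_un (kap τ τ₀ hτ) (qs o'))).trans ?_
      rw [kap_qs, A'.un_res]
      exact map_map _ _ _ _
    rw [h2]
    refine Eq.trans ?_ (nat1 (D'.lam ≫ A'.v.map τ) (A'.un (A₀.un (qs o))))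
    have h3 := CF.tr_un θ (F := ZQ o) (U := T) (qs o)
    rw [CF.comp_un, CF.comp_un] at h3
    refine Eq.trans ?_ (congrArg _ h3.symm)
    have h4 : D'.lam ≫ A'.v.map τ ≫ θ.app T = (D'.lam ≫ A'.v.map τ) ≫ θ.app T :=
      (Category.assoc _ _ _).symm
    rw [h4]
    exact (map_map (B.L.obj (A.L.obj (ZQ o))) _ _ _).symm
  · rw [map_map, hρ, ← map_map]
    have h1 : (B.L.obj (A.L.obj (ZQ o))).obj.map (B.v.map D.n).op
        (B.un (D.gs (qs o) (qs_res o))) = 0 := by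
      refine (B.un_res D.n _).symm.trans ?_
      rw [D.gs_n]
      exact B.un_zero _ _
    rw [h1, map_zero, nat1, nat2, D'.gs_n]
    symm
    refine (congrArg _ (map_zero ((A'.L.map (kap τ τ₀ hτ)).hom.app (op D'.R₀)).hom)).trans ?_
    exact map_zero (((CF.tr θ).app (ZQ o)).hom.app (op D'.R₀)).hom

/-- **Base change of classes.** -/
theorem cl_res (τ₀ : O' ⟶ A₀.v.obj O) (hτ : τ₀ ≫ A₀.v.map o = o' ≫ τ)
    (ω : D'.W ⟶ B.v.obj D.W) (hω : D'.m ≫ σ = ω ≫ B.v.map D.m)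
    (hlam : D'.lam ≫ A'.v.map τ ≫ θ.app T = ω ≫ B.v.map D.lam)
    (ρ : D'.R₀ ⟶ B.v.obj D.R₀) (hρ : D'.n ≫ σ = ρ ≫ B.v.map D.n) {E : EtCoh.Ab P} (N : ℕ)
    (x : Ext.{u + 1} (ZQ o) E N) :
    B.res σ (A.L.obj E) N (D.cl N x) =
      (D'.cl N (extMap A₀.L (kap τ τ₀ hτ) E N x)).comp (Ext.mk₀ ((CF.tr θ).app E))
        (add_zero N) := by
  refine (CF.res_cl A B _ N σ x).trans ?_
  rw [gs_res θ D D' σ τ τ₀ hτ ω hω hlam ρ hρ]
  refine Eq.trans ?_ (congrArg (fun z => z.comp (Ext.mk₀ ((CF.tr θ).app E)) (add_zero N))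
    (CF.cl_extMap A' A₀ _ N (kap τ τ₀ hτ) x).symm)
  exact (CF.cl_tr θ _ N x).symm

end bc

end

end Groth.Agent.Etdl.H440.CF
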