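/-
Classes with values in `𝓕 M`, and their base change.
-/
import Groth.Agent.Etdl.H440.CFGlue

set_option autoImplicit false
set_option linter.dupNamespace false
universe u
open CategoryTheory CategoryTheory.Limits AlgebraicGeometry Opposite Abelian
open Groth.Agent.Sga4B.DualShape Groth.Agent.Sga4B.EUConst
open scoped Groth.Agent.Etcore.EtInst
open Groth.Agent.Etcore.EtInst
open Groth.Agent.Etcore.ExtMap (extMap extMap_apply)

namespace Groth.Agent.Etdl.H440.CF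

noncomputable section

variable {S P Y : Scheme.{u}}

/-- The class in `Ext^N(ℤ[R], 𝓕 M)` of `x ∈ Ext^N(ℤ[T]/ℤ[O], Π M)`. -/
def Chart.fcl {A : CF P Y} {O T : P.Etale} {o : O ⟶ T} {R : Y.Etale} (D : Chart A o R)
    {Pi : CF S P} {Fc : CF S Y} (β : (Pi.comp A).v ⟶ Fc.v) (M : EtCoh.Ab S) (N : ℕ) :
    Ext.{u + 1} (ZQ o) (Pi.L.obj M) N →+ Ext.{u + 1} (ZS R) (Fc.L.obj M) N :=
  ((Ext.mk₀ ((CF.tr β).app M)).postcomp (ZS R) (add_zero N)).comp (D.cl N)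

theorem Chart.fcl_apply {A : CF P Y} {O T : P.Etale} {o : O ⟶ T} {R : Y.Etale} (D : Chart A o R)
    {Pi : CF S P} {Fc : CF S Y} (β : (Pi.comp A).v ⟶ Fc.v) (M : EtCoh.Ab S) (N : ℕ)
    (x : Ext.{u + 1} (ZQ o) (Pi.L.obj M) N) :
    D.fcl β M N x = (D.cl N x).comp (Ext.mk₀ ((CF.tr β).app M)) (add_zero N) := rfl

section bc

variable {P' Y' S' : Scheme.{u}} {A : CF P Y} {B : CF Y Y'} {A₀ : CF P P'} {A' : CF P' Y'}
  (θ : (A₀.comp A').v ⟶ (A.comp B).v) {O T : P.Etale} {o : O ⟶ T} {O' T' : P'.Etale}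
  {o' : O' ⟶ T'} {R : Y.Etale} {R' : Y'.Etale} (D : Chart A o R) (D' : Chart A' o' R')
  (σ : R' ⟶ B.v.obj R) (τ : T' ⟶ A₀.v.obj T)
  {Pi : CF S P} {Fc : CF S Y} (β : (Pi.comp A).v ⟶ Fc.v)
  {Pi' : CF S' P'} {Fc' : CF S' Y'} (β' : (Pi'.comp A').v ⟶ Fc'.v)
  {Sc : CF S S'} (ε : (Pi.comp A₀).v ⟶ (Sc.comp Pi').v)
  (φ : (Sc.comp Fc').v ⟶ (Fc.comp B).v)
  (h : ∀ V : S.Etale, θ.app (Pi.v.obj V) ≫ B.v.map (β.app V) =
    A'.v.map (ε.app V) ≫ β'.app (Sc.v.obj V) ≫ φ.app V)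

include h in
theorem tr_compat (M : EtCoh.Ab S) :
    (CF.tr θ).app (Pi.L.obj M) ≫ B.L.map ((CF.tr β).app M) =
      A'.L.map ((CF.tr ε).app M) ≫ (CF.tr β').app (Sc.L.obj M) ≫ (CF.tr φ).app M := by
  apply CF.hom_ext ((Pi.comp A₀).comp A')
  intro V s
  have e0 : ((Pi.comp A₀).comp A').un s = A'.un (A₀.un (Pi.un s)) :=
    (CF.comp_un (Pi.comp A₀) A' s).trans (congrArg A'.un (CF.comp_un Pi A₀ s))
  -- left hand side
  have l1 : ((CF.tr θ).app (Pi.L.obj M)).hom.app (op (A'.v.obj (A₀.v.obj (Pi.v.obj V))))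
      (A'.un (A₀.un (Pi.un s))) =
      (B.L.obj (A.L.obj (Pi.L.obj M))).obj.map (θ.app (Pi.v.obj V)).op
        (B.un (A.un (Pi.un s))) := by
    have := CF.tr_un θ (Pi.un s)
    rw [CF.comp_un, CF.comp_un] at this
    exact this
  have l2 : (B.L.map ((CF.tr β).app M)).hom.app (op (B.v.obj (A.v.obj (Pi.v.obj V))))
      (B.un (A.un (Pi.un s))) =
      (B.L.obj (Fc.L.obj M)).obj.map (B.v.map (β.app V)).op (B.un (Fc.un s)) := by
    refine (B.map_un ((CF.tr β).app M) (A.un (Pi.un s))).trans ?_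
    have := CF.tr_un β s
    rw [CF.comp_un] at this
    refine (congrArg B.un this).trans ?_
    exact B.un_res (β.app V) (Fc.un s)
  have l3 : ((CF.tr θ).app (Pi.L.obj M) ≫ B.L.map ((CF.tr β).app M)).hom.app
      (op (((Pi.comp A₀).comp A').v.obj V)) (A'.un (A₀.un (Pi.un s))) =
      (B.L.obj (Fc.L.obj M)).obj.map (θ.app (Pi.v.obj V) ≫ B.v.map (β.app V)).op
        (B.un (Fc.un s)) := by
    refine (congrArg ((B.L.map ((CF.tr β).app M)).hom.app _) l1).trans ?_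
    refine (ConcreteCategory.congr_hom ((B.L.map ((CF.tr β).app M)).hom.naturality
      (θ.app (Pi.v.obj V)).op) (B.un (A.un (Pi.un s)))).trans ?_
    refine (congrArg ((B.L.obj (Fc.L.obj M)).obj.map (θ.app (Pi.v.obj V)).op) l2).trans ?_
    exact map_map _ _ _ _
  -- right hand side
  have r1 : (A'.L.map ((CF.tr ε).app M)).hom.app (op (A'.v.obj (A₀.v.obj (Pi.v.obj V))))
      (A'.un (A₀.un (Pi.un s))) =
      (A'.L.obj (Pi'.L.obj (Sc.L.obj M))).obj.map (A'.v.map (ε.app V)).op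
        (A'.un (Pi'.un (Sc.un s))) := by
    refine (A'.map_un ((CF.tr ε).app M) (A₀.un (Pi.un s))).trans ?_
    have := CF.tr_un ε s
    rw [CF.comp_un, CF.comp_un] at this
    refine (congrArg A'.un this).trans ?_
    exact A'.un_res (ε.app V) _
  have r2 : ((CF.tr β').app (Sc.L.obj M)).hom.app (op (A'.v.obj (Pi'.v.obj (Sc.v.obj V))))
      (A'.un (Pi'.un (Sc.un s))) =
      (Fc'.L.obj (Sc.L.obj M)).obj.map (β'.app (Sc.v.obj V)).op (Fc'.un (Sc.un s)) := by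
    have := CF.tr_un β' (Sc.un s)
    rw [CF.comp_un] at this
    exact this
  have r3 : ((CF.tr φ).app M).hom.app (op (Fc'.v.obj (Sc.v.obj V))) (Fc'.un (Sc.un s)) =
      (B.L.obj (Fc.L.obj M)).obj.map (φ.app V).op (B.un (Fc.un s)) := by
    have := CF.tr_un φ s
    rw [CF.comp_un, CF.comp_un] at this
    exact this
  have r4 : (A'.L.map ((CF.tr ε).app M) ≫ (CF.tr β').app (Sc.L.obj M) ≫
      (CF.tr φ).app M).hom.app (op (((Pi.comp A₀).comp A').v.obj V))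
      (A'.un (A₀.un (Pi.un s))) =
      (B.L.obj (Fc.L.obj M)).obj.map
        (A'.v.map (ε.app V) ≫ β'.app (Sc.v.obj V) ≫ φ.app V).op (B.un (Fc.un s)) := by
    refine (congrArg (fun z => ((CF.tr φ).app M).hom.app _
      (((CF.tr β').app (Sc.L.obj M)).hom.app _ z)) r1).trans ?_
    refine (congrArg (((CF.tr φ).app M).hom.app _) (ConcreteCategory.congr_hom
      (((CF.tr β').app (Sc.L.obj M)).hom.naturality (A'.v.map (ε.app V)).op) _)).trans ?_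
    refine (ConcreteCategory.congr_hom (((CF.tr φ).app M).hom.naturality
      (A'.v.map (ε.app V)).op) _).trans ?_
    refine (congrArg (fun z => (B.L.obj (Fc.L.obj M)).obj.map (A'.v.map (ε.app V)).op
      (((CF.tr φ).app M).hom.app _ z)) r2).trans ?_
    refine (congrArg ((B.L.obj (Fc.L.obj M)).obj.map (A'.v.map (ε.app V)).op)
      (ConcreteCategory.congr_hom (((CF.tr φ).app M).hom.naturality
        (β'.app (Sc.v.obj V)).op) _)).trans ?_
    refine (congrArg (fun z => (B.L.obj (Fc.L.obj M)).obj.map (A'.v.map (ε.app V)).op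
      ((B.L.obj (Fc.L.obj M)).obj.map (β'.app (Sc.v.obj V)).op z)) r3).trans ?_
    refine (congrArg ((B.L.obj (Fc.L.obj M)).obj.map (A'.v.map (ε.app V)).op)
      (map_map (B.L.obj (Fc.L.obj M)) (φ.app V) (β'.app (Sc.v.obj V)) (B.un (Fc.un s)))).trans ?_
    exact map_map (B.L.obj (Fc.L.obj M)) _ (A'.v.map (ε.app V)) (B.un (Fc.un s))
  refine (congrArg (((CF.tr θ).app (Pi.L.obj M) ≫ B.L.map ((CF.tr β).app M)).hom.app _)
    e0).trans (l3.trans ?_)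
  refine Eq.trans ?_ (r4.symm.trans (congrArg ((A'.L.map ((CF.tr ε).app M) ≫
    (CF.tr β').app (Sc.L.obj M) ≫ (CF.tr φ).app M).hom.app _) e0.symm))
  exact congrArg (fun k => (B.L.obj (Fc.L.obj M)).obj.map k.op (B.un (Fc.un s))) (h V)

include h in
/-- **Base change of the classes with values in `𝓕 M`.** -/
theorem fcl_res (τ₀ : O' ⟶ A₀.v.obj O) (hτ : τ₀ ≫ A₀.v.map o = o' ≫ τ)
    (ω : D'.W ⟶ B.v.obj D.W) (hω : D'.m ≫ σ = ω ≫ B.v.map D.m)
    (hlam : D'.lam ≫ A'.v.map τ ≫ θ.app T = ω ≫ B.v.map D.lam)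
    (ρ : D'.R₀ ⟶ B.v.obj D.R₀) (hρ : D'.n ≫ σ = ρ ≫ B.v.map D.n) (M : EtCoh.Ab S) (N : ℕ)
    (x : Ext.{u + 1} (ZQ o) (Pi.L.obj M) N) :
    B.res σ (Fc.L.obj M) N (D.fcl β M N x) =
      (D'.fcl β' (Sc.L.obj M) N ((extMap A₀.L (kap τ τ₀ hτ) (Pi.L.obj M) N x).comp
        (Ext.mk₀ ((CF.tr ε).app M)) (add_zero N))).comp (Ext.mk₀ ((CF.tr φ).app M))
        (add_zero N) := by
  have h1 := tr_compat θ β β' ε φ h M
  have h2 : (D'.cl N ((extMap A₀.L (kap τ τ₀ hτ) (Pi.L.obj M) N x).comp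
        (Ext.mk₀ ((CF.tr ε).app M)) (add_zero N))) =
      (D'.cl N (extMap A₀.L (kap τ τ₀ hτ) (Pi.L.obj M) N x)).comp
        (Ext.mk₀ (A'.L.map ((CF.tr ε).app M))) (add_zero N) :=
    CF.cl_comp_mk₀ A' _ N ((CF.tr ε).app M) (extMap A₀.L (kap τ τ₀ hτ) (Pi.L.obj M) N x)
  have h3 : B.res σ (Fc.L.obj M) N (D.fcl β M N x) =
      ((D'.cl N (extMap A₀.L (kap τ τ₀ hτ) (Pi.L.obj M) N x)).comp
        (Ext.mk₀ ((CF.tr θ).app (Pi.L.obj M))) (add_zero N)).comp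
          (Ext.mk₀ (B.L.map ((CF.tr β).app M))) (add_zero N) := by
    refine (CF.res_comp_mk₀ B σ ((CF.tr β).app M) N (D.cl N x)).trans ?_
    exact congrArg (fun z => z.comp (Ext.mk₀ (B.L.map ((CF.tr β).app M))) (add_zero N))
      (cl_res θ D D' σ τ τ₀ hτ ω hω hlam ρ hρ N x)
  have h4 : ((D'.cl N (extMap A₀.L (kap τ τ₀ hτ) (Pi.L.obj M) N x)).comp
        (Ext.mk₀ ((CF.tr θ).app (Pi.L.obj M))) (add_zero N)).comp
          (Ext.mk₀ (B.L.map ((CF.tr β).app M))) (add_zero N) =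
      (D'.cl N (extMap A₀.L (kap τ τ₀ hτ) (Pi.L.obj M) N x)).comp
        (Ext.mk₀ ((CF.tr θ).app (Pi.L.obj M) ≫ B.L.map ((CF.tr β).app M))) (add_zero N) :=
    (Ext.comp_assoc_of_third_deg_zero _ _ _ _).trans
      (congrArg (fun z => (D'.cl N (extMap A₀.L (kap τ τ₀ hτ) (Pi.L.obj M) N x)).comp z
        (add_zero N)) (Ext.mk₀_comp_mk₀ ((CF.tr θ).app (Pi.L.obj M))
          (B.L.map ((CF.tr β).app M))))
  refine h3.trans (h4.trans ?_)
  refine (congrArg (fun k => (D'.cl N (extMap A₀.L (kap τ τ₀ hτ) (Pi.L.obj M) N x)).comp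
    (Ext.mk₀ k) (add_zero N)) h1).trans ?_
  symm
  refine (congrArg (fun z : Ext.{u + 1} (ZS R') (A'.L.obj (Pi'.L.obj (Sc.L.obj M))) N =>
    (z.comp (Ext.mk₀ ((CF.tr β').app (Sc.L.obj M))) (add_zero N)).comp
      (Ext.mk₀ ((CF.tr φ).app M)) (add_zero N)) h2).trans ?_
  refine (Ext.comp_assoc_of_third_deg_zero _ _ _ _).trans ?_
  refine (Ext.comp_assoc_of_third_deg_zero _ _ _ _).trans ?_
  refine congrArg (fun z => (D'.cl N (extMap A₀.L (kap τ τ₀ hτ) (Pi.L.obj M) N x)).comp z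
        (add_zero N)) ?_
  refine (congrArg (fun z => (Ext.mk₀ (A'.L.map ((CF.tr ε).app M))).comp z (add_zero 0))
    (Ext.mk₀_comp_mk₀ ((CF.tr β').app (Sc.L.obj M)) ((CF.tr φ).app M))).trans ?_
  exact Ext.mk₀_comp_mk₀ (A'.L.map ((CF.tr ε).app M)) _

end bc

end

end Groth.Agent.Etdl.H440.CF
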