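/-
The functors `f⁻¹`, `w_!`, `w_! q⁻¹` as objects of `CF`, and the natural transformations between the
functors of étale sites attached to commutative diagrams.
-/
import Groth.Agent.Etdl.H440.CFBeta
import Groth.Agent.EtpbcA.OverSite

set_option autoImplicit false
set_option linter.dupNamespace false
universe u
open CategoryTheory CategoryTheory.Limits AlgebraicGeometry Opposite Abelian
open Groth.Agent.Sga4B.DualShape Groth.Agent.Sga4B.EUConst
open Groth.Agent.EtpbcB.BCCalc
open scoped Groth.Agent.Etcore.EtInst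
open Groth.Agent.Etcore.EtInst
open Groth.Agent.Etcore.ExtMap (extMap extMap_apply)

namespace Groth.Agent.Etdl.H440.CF

noncomputable section

variable {X Y P S W : Scheme.{u}}

/-- `f⁻¹`. -/
@[reducible] def pullCF (f : X ⟶ Y) : CF Y X where
  v := EtCoh.bc f
  cont := inferInstance
  L := EtCoh.pull f
  adj := EtCoh.pullPushAdj f
  add := inferInstance
  pfl := inferInstance
  pfc := inferInstance

/-- `w_!`. -/
@[reducible] def shCF (w : X ⟶ Y) [Etale w] : CF X Y where
  v := EtShriek.compEtale w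
  cont := inferInstance
  L := EtShriek.extZero w
  adj := EtShriek.extZeroAdj w
  add := inferInstance
  pfl := inferInstance
  pfc := inferInstance

/-- `w_! q⁻¹`. -/
@[reducible] def efCF (q : W ⟶ P) (w : W ⟶ Y) [Etale w] : CF P Y := (pullCF q).comp (shCF w)

/-! ### Morphisms into `v T` for `w_! q⁻¹` -/

section ef

variable (q : W ⟶ P) (w : W ⟶ Y) [Etale w]

/-- The projection `v T ⟶ T`. -/
def eT (T : P.Etale) : ((efCF q w).v.obj T).left ⟶ T.left := pr q T

/-- The projection `v T ⟶ W`. -/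
def eW (T : P.Etale) : ((efCF q w).v.obj T).left ⟶ W := ((EtCoh.bc q).obj T).hom

theorem isPullback_e (T : P.Etale) : IsPullback (eT q w T) (eW q w T) T.hom q :=
  isPullback_pr q T

theorem eW_w (T : P.Etale) : eW q w T ≫ w = ((efCF q w).v.obj T).hom := rfl

theorem e_w (T : P.Etale) : eT q w T ≫ T.hom = eW q w T ≫ q := (isPullback_e q w T).w

theorem map_eT {T T' : P.Etale} (g : T ⟶ T') :
    ((efCF q w).v.map g).left ≫ eT q w T' = eT q w T ≫ g.left := bc_map_left_pr q g

theorem map_eW {T T' : P.Etale} (g : T ⟶ T') :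
    ((efCF q w).v.map g).left ≫ eW q w T' = eW q w T := left_hom ((EtCoh.bc q).map g)

/-- Maps into `v T`. -/
def eLift {T : P.Etale} {U : Y.Etale} (a : U.left ⟶ W) (ha : a ≫ w = U.hom)
    (t : U.left ⟶ T.left) (ht : t ≫ T.hom = a ≫ q) : U ⟶ (efCF q w).v.obj T :=
  MorphismProperty.Over.homMk ((isPullback_e q w T).lift t a ht) (by
    rw [← eW_w, ← Category.assoc]
    exact (congrArg (· ≫ w) ((isPullback_e q w T).lift_snd t a ht)).trans ha) trivial

theorem eLift_eT {T : P.Etale} {U : Y.Etale} (a : U.left ⟶ W) (ha : a ≫ w = U.hom)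
    (t : U.left ⟶ T.left) (ht : t ≫ T.hom = a ≫ q) :
    (eLift q w a ha t ht).left ≫ eT q w T = t := (isPullback_e q w T).lift_fst t a ht

theorem eLift_eW {T : P.Etale} {U : Y.Etale} (a : U.left ⟶ W) (ha : a ≫ w = U.hom)
    (t : U.left ⟶ T.left) (ht : t ≫ T.hom = a ≫ q) :
    (eLift q w a ha t ht).left ≫ eW q w T = a := (isPullback_e q w T).lift_snd t a ht

theorem e_hom_ext {T : P.Etale} {U : Y.Etale} {a b : U ⟶ (efCF q w).v.obj T}
    (h1 : a.left ≫ eT q w T = b.left ≫ eT q w T) (h2 : a.left ≫ eW q w T = b.left ≫ eW q w T) :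
    a = b :=
  MorphismProperty.Over.Hom.ext ((isPullback_e q w T).hom_ext h1 h2)

end ef

/-! ### Natural transformations -/

section beta

variable (π : P ⟶ S) (q : W ⟶ P) (w : W ⟶ Y) [Etale w] (f : X ⟶ S) (j : X ⟶ Y) [Etale j]
  (i : W ⟶ X) (h1 : i ≫ j = w) (h2 : i ≫ f = q ≫ π)

include h2 in
omit [Etale j] in
theorem beta_aux (V : S.Etale) :
    (eT q w ((EtCoh.bc π).obj V) ≫ pr π V) ≫ V.hom =
      (eW q w ((EtCoh.bc π).obj V) ≫ i) ≫ f :=
  (Category.assoc _ _ _).trans ((congrArg (eT q w ((EtCoh.bc π).obj V) ≫ ·)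
    (pr_hom π V)).trans ((Category.assoc _ _ _).symm.trans
      ((congrArg (· ≫ π) (e_w q w ((EtCoh.bc π).obj V))).trans
        ((Category.assoc _ _ _).trans ((congrArg (eW q w ((EtCoh.bc π).obj V) ≫ ·)
          h2.symm).trans (Category.assoc _ _ _).symm)))))

include h1 in
omit [Etale j] in
theorem beta_aux' (V : S.Etale) :
    (eW q w ((EtCoh.bc π).obj V) ≫ i) ≫ j = (((pullCF π).comp (efCF q w)).v.obj V).hom :=
  (Category.assoc _ _ _).trans (congrArg (eW q w ((EtCoh.bc π).obj V) ≫ ·) h1)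

/-- `W ×_P (P ×_S V) ⟶ X ×_S V`. -/
def betaApp (V : S.Etale) : ((pullCF π).comp (efCF q w)).v.obj V ⟶ (efCF f j).v.obj V :=
  eLift f j (eW q w ((EtCoh.bc π).obj V) ≫ i) (beta_aux' π q w j i h1 V)
    (eT q w ((EtCoh.bc π).obj V) ≫ pr π V) (beta_aux π q w f i h2 V)

theorem betaApp_eT (V : S.Etale) : (betaApp π q w f j i h1 h2 V).left ≫ eT f j V =
    eT q w ((EtCoh.bc π).obj V) ≫ pr π V :=
  eLift_eT f j _ (beta_aux' π q w j i h1 V) _ (beta_aux π q w f i h2 V)

theorem betaApp_eW (V : S.Etale) : (betaApp π q w f j i h1 h2 V).left ≫ eW f j V =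
    eW q w ((EtCoh.bc π).obj V) ≫ i :=
  eLift_eW f j _ (beta_aux' π q w j i h1 V) _ (beta_aux π q w f i h2 V)

/-- `W ×_P (P ×_S V) ⟶ X ×_S V`. -/
def betaNT : ((pullCF π).comp (efCF q w)).v ⟶ (efCF f j).v where
  app V := betaApp π q w f j i h1 h2 V
  naturality V V' g := by
    apply e_hom_ext
    · refine (Category.assoc _ _ _).trans ?_
      refine (congrArg ((((pullCF π).comp (efCF q w)).v.map g).left ≫ ·)
        (betaApp_eT π q w f j i h1 h2 V')).trans ?_
      refine (Category.assoc _ _ _).symm.trans ?_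
      refine (congrArg (· ≫ pr π V') (map_eT q w ((EtCoh.bc π).map g))).trans ?_
      refine (Category.assoc _ _ _).trans ?_
      refine (congrArg (eT q w ((EtCoh.bc π).obj V) ≫ ·) (bc_map_left_pr π g)).trans ?_
      symm
      refine (Category.assoc _ _ _).trans ?_
      refine (congrArg ((betaApp π q w f j i h1 h2 V).left ≫ ·) (map_eT f j g)).trans ?_
      refine (Category.assoc _ _ _).symm.trans ?_
      refine (congrArg (· ≫ g.left) (betaApp_eT π q w f j i h1 h2 V)).trans ?_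
      exact Category.assoc _ _ _
    · refine (Category.assoc _ _ _).trans ?_
      refine (congrArg ((((pullCF π).comp (efCF q w)).v.map g).left ≫ ·)
        (betaApp_eW π q w f j i h1 h2 V')).trans ?_
      refine (Category.assoc _ _ _).symm.trans ?_
      refine (congrArg (· ≫ i) (map_eW q w ((EtCoh.bc π).map g))).trans ?_
      symm
      refine (Category.assoc _ _ _).trans ?_
      refine (congrArg ((betaApp π q w f j i h1 h2 V).left ≫ ·) (map_eW f j g)).trans ?_
      exact betaApp_eW π q w f j i h1 h2 V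

theorem betaNT_eT (V : S.Etale) : ((betaNT π q w f j i h1 h2).app V).left ≫ eT f j V =
    eT q w ((EtCoh.bc π).obj V) ≫ pr π V := betaApp_eT π q w f j i h1 h2 V

theorem betaNT_eW (V : S.Etale) : ((betaNT π q w f j i h1 h2).app V).left ≫ eW f j V =
    eW q w ((EtCoh.bc π).obj V) ≫ i := betaApp_eW π q w f j i h1 h2 V

end beta

section theta

variable {P' W' Y' : Scheme.{u}} (a : P' ⟶ P) (q' : W' ⟶ P') (w' : W' ⟶ Y') [Etale w']
  (q : W ⟶ P) (w : W ⟶ Y) [Etale w] (r : Y' ⟶ Y) (t : W' ⟶ W) (h1 : t ≫ w = w' ≫ r)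
  (h2 : t ≫ q = q' ≫ a)

/-- The composite `Y' ×_Y (W ×_P T) ⟶ T`. -/
def rT (T : P.Etale) : (((efCF q w).comp (pullCF r)).v.obj T).left ⟶ T.left :=
  pr r ((efCF q w).v.obj T) ≫ eT q w T

/-- The composite `Y' ×_Y (W ×_P T) ⟶ W`. -/
def rW (T : P.Etale) : (((efCF q w).comp (pullCF r)).v.obj T).left ⟶ W :=
  pr r ((efCF q w).v.obj T) ≫ eW q w T

theorem rW_w (T : P.Etale) :
    rW q w r T ≫ w = (((efCF q w).comp (pullCF r)).v.obj T).hom ≫ r := by
  unfold rW
  rw [Category.assoc, eW_w]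
  exact pr_hom r ((efCF q w).v.obj T)

theorem r_w (T : P.Etale) : rT q w r T ≫ T.hom = rW q w r T ≫ q := by
  unfold rT rW
  rw [Category.assoc, e_w, Category.assoc]

theorem map_rT {T T' : P.Etale} (g : T ⟶ T') :
    (((efCF q w).comp (pullCF r)).v.map g).left ≫ rT q w r T' = rT q w r T ≫ g.left := by
  unfold rT
  refine (Category.assoc _ _ _).symm.trans ?_
  refine (congrArg (· ≫ eT q w T') (bc_map_left_pr r ((efCF q w).v.map g))).trans ?_
  refine (Category.assoc _ _ _).trans ?_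
  refine (congrArg (pr r ((efCF q w).v.obj T) ≫ ·) (map_eT q w g)).trans ?_
  exact (Category.assoc _ _ _).symm

theorem map_rW {T T' : P.Etale} (g : T ⟶ T') :
    (((efCF q w).comp (pullCF r)).v.map g).left ≫ rW q w r T' = rW q w r T := by
  unfold rW
  refine (Category.assoc _ _ _).symm.trans ?_
  refine (congrArg (· ≫ eW q w T') (bc_map_left_pr r ((efCF q w).v.map g))).trans ?_
  refine (Category.assoc _ _ _).trans ?_
  exact congrArg (pr r ((efCF q w).v.obj T) ≫ ·) (map_eW q w g)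

theorem r_hom_ext {T : P.Etale} {U : Y'.Etale} {x y : U ⟶ ((efCF q w).comp (pullCF r)).v.obj T}
    (h1 : x.left ≫ rT q w r T = y.left ≫ rT q w r T)
    (h2 : x.left ≫ rW q w r T = y.left ≫ rW q w r T) : x = y := by
  apply hom_ext_bc r
  apply (isPullback_e q w T).hom_ext
  · rw [Category.assoc, Category.assoc]
    exact h1
  · rw [Category.assoc, Category.assoc]
    exact h2

/-- Maps into `r⁻¹ (v T)`. -/
def rLift {T : P.Etale} {U : Y'.Etale} (k : U.left ⟶ W) (hk : k ≫ w = U.hom ≫ r)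
    (t : U.left ⟶ T.left) (ht : t ≫ T.hom = k ≫ q) :
    U ⟶ ((efCF q w).comp (pullCF r)).v.obj T :=
  lift r (U := (efCF q w).v.obj T) ((isPullback_e q w T).lift t k ht) (by
    rw [← eW_w, ← Category.assoc]
    exact (congrArg (· ≫ w) ((isPullback_e q w T).lift_snd t k ht)).trans hk)

theorem rLift_rT {T : P.Etale} {U : Y'.Etale} (k : U.left ⟶ W) (hk : k ≫ w = U.hom ≫ r)
    (t : U.left ⟶ T.left) (ht : t ≫ T.hom = k ≫ q) :
    (rLift q w r k hk t ht).left ≫ rT q w r T = t := by
  unfold rT rLift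
  rw [← Category.assoc]
  refine (congrArg (· ≫ eT q w T) (lift_left_pr r _ _)).trans ?_
  exact (isPullback_e q w T).lift_fst t k ht

theorem rLift_rW {T : P.Etale} {U : Y'.Etale} (k : U.left ⟶ W) (hk : k ≫ w = U.hom ≫ r)
    (t : U.left ⟶ T.left) (ht : t ≫ T.hom = k ≫ q) :
    (rLift q w r k hk t ht).left ≫ rW q w r T = k := by
  unfold rW rLift
  rw [← Category.assoc]
  refine (congrArg (· ≫ eW q w T) (lift_left_pr r _ _)).trans ?_
  exact (isPullback_e q w T).lift_snd t k ht

include h1 in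
omit [Etale w] in
theorem theta_aux (T : P.Etale) : (eW q' w' ((EtCoh.bc a).obj T) ≫ t) ≫ w =
    (((pullCF a).comp (efCF q' w')).v.obj T).hom ≫ r :=
  (Category.assoc _ _ _).trans ((congrArg (eW q' w' ((EtCoh.bc a).obj T) ≫ ·) h1).trans
    (Category.assoc _ _ _).symm)

include h2 in
theorem theta_aux' (T : P.Etale) : (eT q' w' ((EtCoh.bc a).obj T) ≫ pr a T) ≫ T.hom =
    (eW q' w' ((EtCoh.bc a).obj T) ≫ t) ≫ q :=
  (Category.assoc _ _ _).trans ((congrArg (eT q' w' ((EtCoh.bc a).obj T) ≫ ·)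
    (pr_hom a T)).trans ((Category.assoc _ _ _).symm.trans
      ((congrArg (· ≫ a) (e_w q' w' ((EtCoh.bc a).obj T))).trans
        ((Category.assoc _ _ _).trans ((congrArg (eW q' w' ((EtCoh.bc a).obj T) ≫ ·)
          h2.symm).trans (Category.assoc _ _ _).symm)))))

/-- `W' ×_{P'} (P' ×_P T) ⟶ Y' ×_Y (W ×_P T)`. -/
def thetaApp (T : P.Etale) : ((pullCF a).comp (efCF q' w')).v.obj T ⟶
    ((efCF q w).comp (pullCF r)).v.obj T :=
  rLift q w r (eW q' w' ((EtCoh.bc a).obj T) ≫ t) (theta_aux a q' w' w r t h1 T)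
    (eT q' w' ((EtCoh.bc a).obj T) ≫ pr a T) (theta_aux' a q' w' q t h2 T)

theorem thetaApp_rT (T : P.Etale) : (thetaApp a q' w' q w r t h1 h2 T).left ≫ rT q w r T =
    eT q' w' ((EtCoh.bc a).obj T) ≫ pr a T :=
  rLift_rT q w r _ (theta_aux a q' w' w r t h1 T) _ (theta_aux' a q' w' q t h2 T)

theorem thetaApp_rW (T : P.Etale) : (thetaApp a q' w' q w r t h1 h2 T).left ≫ rW q w r T =
    eW q' w' ((EtCoh.bc a).obj T) ≫ t :=
  rLift_rW q w r _ (theta_aux a q' w' w r t h1 T) _ (theta_aux' a q' w' q t h2 T)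

/-- `W' ×_{P'} (P' ×_P T) ⟶ Y' ×_Y (W ×_P T)`. -/
def thetaNT : ((pullCF a).comp (efCF q' w')).v ⟶ ((efCF q w).comp (pullCF r)).v where
  app T := thetaApp a q' w' q w r t h1 h2 T
  naturality T T' g := by
    apply r_hom_ext
    · refine (Category.assoc _ _ _).trans ?_
      refine (congrArg ((((pullCF a).comp (efCF q' w')).v.map g).left ≫ ·)
        (thetaApp_rT a q' w' q w r t h1 h2 T')).trans ?_
      refine (Category.assoc _ _ _).symm.trans ?_
      refine (congrArg (· ≫ pr a T') (map_eT q' w' ((EtCoh.bc a).map g))).trans ?_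
      refine (Category.assoc _ _ _).trans ?_
      refine (congrArg (eT q' w' ((EtCoh.bc a).obj T) ≫ ·) (bc_map_left_pr a g)).trans ?_
      symm
      refine (Category.assoc _ _ _).trans ?_
      refine (congrArg ((thetaApp a q' w' q w r t h1 h2 T).left ≫ ·) (map_rT q w r g)).trans ?_
      refine (Category.assoc _ _ _).symm.trans ?_
      refine (congrArg (· ≫ g.left) (thetaApp_rT a q' w' q w r t h1 h2 T)).trans ?_
      exact Category.assoc _ _ _
    · refine (Category.assoc _ _ _).trans ?_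
      refine (congrArg ((((pullCF a).comp (efCF q' w')).v.map g).left ≫ ·)
        (thetaApp_rW a q' w' q w r t h1 h2 T')).trans ?_
      refine (Category.assoc _ _ _).symm.trans ?_
      refine (congrArg (· ≫ t) (map_eW q' w' ((EtCoh.bc a).map g))).trans ?_
      symm
      refine (Category.assoc _ _ _).trans ?_
      refine (congrArg ((thetaApp a q' w' q w r t h1 h2 T).left ≫ ·) (map_rW q w r g)).trans ?_
      exact thetaApp_rW a q' w' q w r t h1 h2 T

theorem thetaNT_rT (T : P.Etale) : ((thetaNT a q' w' q w r t h1 h2).app T).left ≫ rT q w r T =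
    eT q' w' ((EtCoh.bc a).obj T) ≫ pr a T := thetaApp_rT a q' w' q w r t h1 h2 T

theorem thetaNT_rW (T : P.Etale) : ((thetaNT a q' w' q w r t h1 h2).app T).left ≫ rW q w r T =
    eW q' w' ((EtCoh.bc a).obj T) ≫ t := thetaApp_rW a q' w' q w r t h1 h2 T

end theta

end

end Groth.Agent.Etdl.H440.CF
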