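/-
Geometric charts: `Y ⊇ R ⊇ W`, `t : W ⟶ T` with `t⁻¹(T - O)` closed in `R`; the class attached to a
chart, and its base change.
-/
import Groth.Agent.Etdl.H440.CFGeom

set_option autoImplicit false
set_option linter.dupNamespace false
universe u
open CategoryTheory CategoryTheory.Limits AlgebraicGeometry Opposite Abelian
open Groth.Agent.Sga4B.DualShape Groth.Agent.Sga4B.EUConst
open Groth.Agent.EtpbcB.BCCalc
open Groth.Agent.Etbase.EtGlue (opn opnι)
open Groth.Agent.EtpbcA.OverSite (str)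
open scoped Groth.Agent.Etcore.EtInst
open Groth.Agent.Etcore.EtInst
open Groth.Agent.Etcore.ExtMap (extMap extMap_apply)

namespace Groth.Agent.Etdl.H440.CF

noncomputable section

variable {X Y P S : Scheme.{u}}

section mk

variable {O T : P.Etale} (o : O ⟶ T) [IsOpenImmersion o.left] {R W : Y.Etale} (m : W ⟶ R)
  (t : W.left ⟶ T.left) (U₀ : R.left.Opens)
  (cov : Set.range m.left ∪ (U₀ : Set R.left) = Set.univ)
  (van : ∀ z : W.left, m.left z ∈ U₀ → t z ∈ Set.range o.left)
  (agree : ∀ (U : Y.Etale) (a b : U ⟶ W), a ≫ m = b ≫ m → ∀ z : U.left,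
    ∃ (V : Y.Etale) (g : V ⟶ U), z ∈ Set.range g.left ∧ (g ≫ a = g ≫ b ∨
      ((∀ y, t (a.left (g.left y)) ∈ Set.range o.left) ∧
        ∀ y, t (b.left (g.left y)) ∈ Set.range o.left)))

/-- A morphism to `v O`. -/
theorem exists_fac {U : Y.Etale} (a : U ⟶ W) (h : ∀ y, t (a.left y) ∈ Set.range o.left) :
    ∃ c : U ⟶ (efCF (t ≫ T.hom) (str W)).v.obj O,
      a ≫ eLift (t ≫ T.hom) (str W) (𝟙 W.left) (Category.id_comp _) t
        (Category.id_comp _).symm = c ≫ (efCF (t ≫ T.hom) (str W)).v.map o := by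
  obtain ⟨l, hl⟩ : ∃ l : U.left ⟶ O.left, l ≫ o.left = a.left ≫ t := by
    have h : Set.range (a.left ≫ t) ⊆ Set.range o.left := by
      rintro _ ⟨z, rfl⟩
      rw [Scheme.Hom.comp_apply]
      exact h z
    exact ⟨IsOpenImmersion.lift o.left (a.left ≫ t) h, IsOpenImmersion.lift_fac _ _ _⟩
  have h1 : l ≫ O.hom = a.left ≫ t ≫ T.hom := by
    rw [← left_hom o, ← Category.assoc, hl, Category.assoc]
  refine ⟨eLift (t ≫ T.hom) (str W) a.left (left_hom a) l h1, ?_⟩
  apply e_hom_ext
  · refine (Category.assoc _ _ _).trans ?_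
    refine (congrArg (a.left ≫ ·) (eLift_eT (t ≫ T.hom) (str W) (U := W) (𝟙 W.left)
      (Category.id_comp _) t (Category.id_comp _).symm)).trans ?_
    refine hl.symm.trans ?_
    symm
    refine (Category.assoc _ _ _).trans ?_
    refine (congrArg ((eLift (t ≫ T.hom) (str W) a.left (left_hom a) l h1).left ≫ ·)
      (map_eT (t ≫ T.hom) (str W) o)).trans ?_
    refine (Category.assoc _ _ _).symm.trans ?_
    exact congrArg (· ≫ o.left) (eLift_eT (t ≫ T.hom) (str W) a.left (left_hom a) l h1)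
  · refine (Category.assoc _ _ _).trans ?_
    refine (congrArg (a.left ≫ ·) (eLift_eW (t ≫ T.hom) (str W) (U := W) (𝟙 W.left)
      (Category.id_comp _) t (Category.id_comp _).symm)).trans ?_
    refine (Category.comp_id _).trans ?_
    symm
    refine (Category.assoc _ _ _).trans ?_
    refine (congrArg ((eLift (t ≫ T.hom) (str W) a.left (left_hom a) l h1).left ≫ ·)
      (map_eW (t ≫ T.hom) (str W) o)).trans ?_
    exact eLift_eW (t ≫ T.hom) (str W) a.left (left_hom a) l h1

/-- The abstract chart of a geometric chart. -/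
def mkChart : Chart (efCF (t ≫ T.hom) (str W)) o R where
  W := W
  m := m
  lam := eLift (t ≫ T.hom) (str W) (𝟙 W.left) (Category.id_comp _) t
    (Category.id_comp _).symm
  R₀ := opn R U₀
  n := opnι R U₀
  mono_n := inferInstance
  cov := by
    rw [Etbase.EtGlue.range_opnι]
    exact cov
  van U a b hab := exists_fac o t a (fun y => by
    apply van
    have h1 : m.left (a.left y) = (a ≫ m).left y := by
      rw [comp_left, Scheme.Hom.comp_apply]
    rw [h1, hab]
    exact Etbase.EtGlue.opn_hom_left R U₀ b y)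
  agree U a b hab z := by
    obtain ⟨V, g, hz, hg⟩ := agree U a b hab z
    refine ⟨V, g, hz, ?_⟩
    rcases hg with hg | ⟨h1, h2⟩
    · exact Or.inl hg
    · obtain ⟨c, hc⟩ := exists_fac o t (g ≫ a) (fun y => by
        rw [comp_left, Scheme.Hom.comp_apply]
        exact h1 y)
      obtain ⟨d, hd⟩ := exists_fac o t (g ≫ b) (fun y => by
        rw [comp_left, Scheme.Hom.comp_apply]
        exact h2 y)
      exact Or.inr ⟨c, d, (Category.assoc _ _ _).symm.trans hc,
        (Category.assoc _ _ _).symm.trans hd⟩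

end mk

/-- A geometric chart: `W` étale over `R`, with coordinates `t : W ⟶ T`; `R - U₀` is a closed
subset; the inverse image in `W` of the complement of `O` is mapped isomorphically to `R - U₀`. -/
structure GChart (π : P ⟶ S) (f : X ⟶ S) (j : X ⟶ Y) {O T : P.Etale} (o : O ⟶ T)
    (R : Y.Etale) where
  /-- étale over `R` -/
  W : Y.Etale
  /-- the morphism to `R` -/
  m : W ⟶ R
  /-- `W ⟶ X` -/
  i : W.left ⟶ X
  hi : i ≫ j = W.hom
  /-- the coordinates -/
  t : W.left ⟶ T.left
  comm : i ≫ f = t ≫ T.hom ≫ π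
  /-- the complement of the support -/
  U₀ : R.left.Opens
  cov : Set.range m.left ∪ (U₀ : Set R.left) = Set.univ
  van : ∀ z : W.left, m.left z ∈ U₀ → t z ∈ Set.range o.left
  agree : ∀ (U : Y.Etale) (a b : U ⟶ W), a ≫ m = b ≫ m → ∀ z : U.left,
    ∃ (V : Y.Etale) (g : V ⟶ U), z ∈ Set.range g.left ∧ (g ≫ a = g ≫ b ∨
      ((∀ y, t (a.left (g.left y)) ∈ Set.range o.left) ∧
        ∀ y, t (b.left (g.left y)) ∈ Set.range o.left))

namespace GChart

variable {π : P ⟶ S} {f : X ⟶ S} {j : X ⟶ Y} [Etale j] {O T : P.Etale} {o : O ⟶ T}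
  [IsOpenImmersion o.left] {R : Y.Etale} (G : GChart π f j o R)

/-- The abstract chart. -/
def chart : Chart (efCF (G.t ≫ T.hom) (str G.W)) o R :=
  mkChart o G.m G.t G.U₀ G.cov G.van G.agree

/-- The natural transformation to `X ×_S V`. -/
def beta : ((pullCF π).comp (efCF (G.t ≫ T.hom) (str G.W))).v ⟶ (efCF f j).v :=
  betaNT π (G.t ≫ T.hom) (str G.W) f j G.i G.hi (G.comm.trans (Category.assoc _ _ _).symm)

/-- The class attached to a chart. -/
def cls (M : EtCoh.Ab S) (N : ℕ) :
    Ext.{u + 1} (ZQ o) ((EtCoh.pull π).obj M) N →+ Ext.{u + 1} (ZS R) ((efCF f j).L.obj M) N :=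
  G.chart.fcl (Pi := pullCF π) (Fc := efCF f j) G.beta M N

end GChart

/-! ### Base change -/

/-- `P' ×_P (P ×_S V) ⟶ P' ×_{S'} (S' ×_S V)`. -/
def epsNT {P' S' : Scheme.{u}} (π : P ⟶ S) (a : P' ⟶ P) (s : S' ⟶ S) (π' : P' ⟶ S')
    (w : π' ≫ s = a ≫ π) :
    ((pullCF π).comp (pullCF a)).v ⟶ ((pullCF s).comp (pullCF π')).v where
  app V := (theta w V).hom
  naturality V V' g := by
    apply hom_ext_bc₂ s π'
    refine (Category.assoc _ _ _).trans ?_
    refine (congrArg ((((pullCF π).comp (pullCF a)).v.map g).left ≫ ·)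
      (theta_hom_left_pr w V')).trans ?_
    symm
    refine (Category.assoc _ _ _).trans ?_
    have e1 : (((pullCF s).comp (pullCF π')).v.map g).left ≫ pr π' _ ≫ pr s V' =
        (pr π' _ ≫ pr s V) ≫ g.left := by
      refine (Category.assoc _ _ _).symm.trans ?_
      refine (congrArg (· ≫ pr s V') (bc_map_left_pr π' ((EtCoh.bc s).map g))).trans ?_
      refine (Category.assoc _ _ _).trans ?_
      refine (congrArg (pr π' _ ≫ ·) (bc_map_left_pr s g)).trans ?_
      exact (Category.assoc _ _ _).symm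
    have e2 : (((pullCF π).comp (pullCF a)).v.map g).left ≫ pr a _ ≫ pr π V' =
        (pr a _ ≫ pr π V) ≫ g.left := by
      refine (Category.assoc _ _ _).symm.trans ?_
      refine (congrArg (· ≫ pr π V') (bc_map_left_pr a ((EtCoh.bc π).map g))).trans ?_
      refine (Category.assoc _ _ _).trans ?_
      refine (congrArg (pr a _ ≫ ·) (bc_map_left_pr π g)).trans ?_
      exact (Category.assoc _ _ _).symm
    refine (congrArg ((theta w V).hom.left ≫ ·) e1).trans ?_
    refine (Category.assoc _ _ _).symm.trans ?_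
    refine (congrArg (· ≫ g.left) (theta_hom_left_pr w V)).trans ?_
    exact e2.symm

theorem epsNT_pr {P' S' : Scheme.{u}} (π : P ⟶ S) (a : P' ⟶ P) (s : S' ⟶ S) (π' : P' ⟶ S')
    (w : π' ≫ s = a ≫ π) (V : S.Etale) :
    ((epsNT π a s π' w).app V).left ≫ pr π' ((EtCoh.bc s).obj V) ≫ pr s V =
      pr a ((EtCoh.bc π).obj V) ≫ pr π V := theta_hom_left_pr w V

section bc

variable {P' S' X' Y' : Scheme.{u}} (π : P ⟶ S) (a : P' ⟶ P) (s : S' ⟶ S) (π' : P' ⟶ S')
  (w : π' ≫ s = a ≫ π) (f : X ⟶ S) (j : X ⟶ Y) [Etale j] (f' : X' ⟶ S') (j' : X' ⟶ Y') [Etale j']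
  (r : Y' ⟶ Y) (x : X' ⟶ X) (hx : x ≫ j = j' ≫ r) (hf : x ≫ f = f' ≫ s)

theorem compat_aux {W W' : Scheme.{u}} (q : W ⟶ P) (v : W ⟶ Y) [Etale v] (q' : W' ⟶ P')
    (v' : W' ⟶ Y') [Etale v'] (g : W' ⟶ W) (h1 : g ≫ v = v' ≫ r) (h2 : g ≫ q = q' ≫ a)
    (i : W ⟶ X) (i1 : i ≫ j = v) (i2 : i ≫ f = q ≫ π)
    (i' : W' ⟶ X') (i1' : i' ≫ j' = v') (i2' : i' ≫ f' = q' ≫ π') (hi : i' ≫ x = g ≫ i)
    (V : S.Etale) :
    (thetaNT a q' v' q v r g h1 h2).app ((EtCoh.bc π).obj V) ≫
      (EtCoh.bc r).map ((betaNT π q v f j i i1 i2).app V) =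
    (efCF q' v').v.map ((epsNT π a s π' w).app V) ≫
      (betaNT π' q' v' f' j' i' i1' i2').app ((EtCoh.bc s).obj V) ≫
        (thetaNT s f' j' f j r x hx hf).app V := by
  apply r_hom_ext
  · have e1 : ((EtCoh.bc r).map ((betaNT π q v f j i i1 i2).app V)).left ≫ rT f j r V =
        rT q v r ((EtCoh.bc π).obj V) ≫ pr π V := by
      refine (Category.assoc _ _ _).symm.trans ?_
      refine (congrArg (· ≫ eT f j V)
        (bc_map_left_pr r ((betaNT π q v f j i i1 i2).app V))).trans ?_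
      refine (Category.assoc _ _ _).trans ?_
      refine (congrArg (pr r _ ≫ ·) (betaNT_eT π q v f j i i1 i2 V)).trans ?_
      exact (Category.assoc _ _ _).symm
    refine (Category.assoc _ _ _).trans ?_
    refine (congrArg (((thetaNT a q' v' q v r g h1 h2).app ((EtCoh.bc π).obj V)).left ≫ ·)
      e1).trans ?_
    refine (Category.assoc _ _ _).symm.trans ?_
    refine (congrArg (· ≫ pr π V) (thetaNT_rT a q' v' q v r g h1 h2
      ((EtCoh.bc π).obj V))).trans ?_
    symm
    refine (Category.assoc _ _ _).trans ?_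
    have e2 : ((betaNT π' q' v' f' j' i' i1' i2').app ((EtCoh.bc s).obj V) ≫
        (thetaNT s f' j' f j r x hx hf).app V).left ≫ rT f j r V =
        eT q' v' ((EtCoh.bc π').obj ((EtCoh.bc s).obj V)) ≫ pr π' ((EtCoh.bc s).obj V) ≫
          pr s V := by
      refine (Category.assoc _ _ _).trans ?_
      refine (congrArg (((betaNT π' q' v' f' j' i' i1' i2').app ((EtCoh.bc s).obj V)).left ≫ ·)
        (thetaNT_rT s f' j' f j r x hx hf V)).trans ?_
      refine (Category.assoc _ _ _).symm.trans ?_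
      refine (congrArg (· ≫ pr s V) (betaNT_eT π' q' v' f' j' i' i1' i2'
        ((EtCoh.bc s).obj V))).trans ?_
      exact Category.assoc _ _ _
    refine (congrArg (((efCF q' v').v.map ((epsNT π a s π' w).app V)).left ≫ ·) e2).trans ?_
    refine (Category.assoc _ _ _).symm.trans ?_
    refine (congrArg (· ≫ pr π' ((EtCoh.bc s).obj V) ≫ pr s V)
      (map_eT q' v' ((epsNT π a s π' w).app V))).trans ?_
    refine (Category.assoc _ _ _).trans ?_
    refine (congrArg (eT q' v' _ ≫ ·) (epsNT_pr π a s π' w V)).trans ?_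
    exact (Category.assoc _ _ _).symm
  · have e1 : ((EtCoh.bc r).map ((betaNT π q v f j i i1 i2).app V)).left ≫ rW f j r V =
        rW q v r ((EtCoh.bc π).obj V) ≫ i := by
      refine (Category.assoc _ _ _).symm.trans ?_
      refine (congrArg (· ≫ eW f j V)
        (bc_map_left_pr r ((betaNT π q v f j i i1 i2).app V))).trans ?_
      refine (Category.assoc _ _ _).trans ?_
      refine (congrArg (pr r _ ≫ ·) (betaNT_eW π q v f j i i1 i2 V)).trans ?_
      exact (Category.assoc _ _ _).symm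
    refine (Category.assoc _ _ _).trans ?_
    refine (congrArg (((thetaNT a q' v' q v r g h1 h2).app ((EtCoh.bc π).obj V)).left ≫ ·)
      e1).trans ?_
    refine (Category.assoc _ _ _).symm.trans ?_
    refine (congrArg (· ≫ i) (thetaNT_rW a q' v' q v r g h1 h2
      ((EtCoh.bc π).obj V))).trans ?_
    refine (Category.assoc _ _ _).trans ?_
    refine (congrArg (eW q' v' _ ≫ ·) hi.symm).trans ?_
    symm
    refine (Category.assoc _ _ _).trans ?_
    have e2 : ((betaNT π' q' v' f' j' i' i1' i2').app ((EtCoh.bc s).obj V) ≫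
        (thetaNT s f' j' f j r x hx hf).app V).left ≫ rW f j r V =
        eW q' v' ((EtCoh.bc π').obj ((EtCoh.bc s).obj V)) ≫ i' ≫ x := by
      refine (Category.assoc _ _ _).trans ?_
      refine (congrArg (((betaNT π' q' v' f' j' i' i1' i2').app ((EtCoh.bc s).obj V)).left ≫ ·)
        (thetaNT_rW s f' j' f j r x hx hf V)).trans ?_
      refine (Category.assoc _ _ _).symm.trans ?_
      refine (congrArg (· ≫ x) (betaNT_eW π' q' v' f' j' i' i1' i2'
        ((EtCoh.bc s).obj V))).trans ?_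
      exact Category.assoc _ _ _
    refine (congrArg (((efCF q' v').v.map ((epsNT π a s π' w).app V)).left ≫ ·) e2).trans ?_
    refine (Category.assoc _ _ _).symm.trans ?_
    exact congrArg (· ≫ i' ≫ x) (map_eW q' v' ((epsNT π a s π' w).app V))

end bc

end

end Groth.Agent.Etdl.H440.CF
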