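/-
Base change of the class attached to a geometric chart.
-/
import Groth.Agent.Etdl.H440.CFChart

set_option autoImplicit false
set_option linter.dupNamespace false
universe u
open CategoryTheory CategoryTheory.Limits AlgebraicGeometry Opposite Abelian
open Groth.Agent.Sga4B.DualShape Groth.Agent.Sga4B.EUConst
open Groth.Agent.EtpbcB.BCCalc
open Groth.Agent.Etbase.EtGlue (opn opnι)
open Groth.Agent.EtpbcA.OverSite (str)
open scoped Groth.Agent.Etcore.EtInst
open Groth.Agent.Etcore.EtInst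
open Groth.Agent.Etcore.ExtMap (extMap extMap_apply)

namespace Groth.Agent.Etdl.H440.CF

noncomputable section

variable {X Y P S : Scheme.{u}}

namespace GChart

variable {π : P ⟶ S} {f : X ⟶ S} {j : X ⟶ Y} [Etale j] {O T : P.Etale} {o : O ⟶ T}
  [IsOpenImmersion o.left] {R : Y.Etale} (G : GChart π f j o R)

omit [Etale j] in
theorem lam_eT : (G.chart.lam).left ≫ eT (G.t ≫ T.hom) (str G.W) T = G.t :=
  eLift_eT (G.t ≫ T.hom) (str G.W) (U := G.W) (𝟙 G.W.left)
      (Category.id_comp _) G.t (Category.id_comp _).symm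

omit [Etale j] in
theorem lam_eW : (G.chart.lam).left ≫ eW (G.t ≫ T.hom) (str G.W) T = 𝟙 G.W.left :=
  eLift_eW (G.t ≫ T.hom) (str G.W) (U := G.W) (𝟙 G.W.left)
      (Category.id_comp _) G.t (Category.id_comp _).symm

end GChart

section rho

variable {Y' : Scheme.{u}} (r : Y' ⟶ Y) {R : Y.Etale} {R' : Y'.Etale}
  (σ : R' ⟶ (EtCoh.bc r).obj R)

/-- Lifting a morphism to the base change. -/
theorem exists_rho' {N : Y.Etale} {N' : Y'.Etale} (n : N ⟶ R) (n' : N' ⟶ R')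
    (k : N'.left ⟶ N.left) (hk : k ≫ n.left = n'.left ≫ σ.left ≫ pr r R) :
    ∃ ρ : N' ⟶ (EtCoh.bc r).obj N, n' ≫ σ = ρ ≫ (EtCoh.bc r).map n := by
  have e0 : σ.left ≫ pr r R ≫ R.hom = R'.hom ≫ r :=
    (congrArg (σ.left ≫ ·) (pr_hom r R)).trans
      ((Category.assoc _ _ _).symm.trans (congrArg (· ≫ r) (left_hom σ)))
  have hk2 : k ≫ N.hom = N'.hom ≫ r :=
    calc k ≫ N.hom = k ≫ n.left ≫ R.hom := congrArg (k ≫ ·) (left_hom n).symm
      _ = (k ≫ n.left) ≫ R.hom := (Category.assoc _ _ _).symm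
      _ = (n'.left ≫ σ.left ≫ pr r R) ≫ R.hom := congrArg (· ≫ R.hom) hk
      _ = n'.left ≫ σ.left ≫ pr r R ≫ R.hom :=
        (Category.assoc _ _ _).trans (congrArg (n'.left ≫ ·) (Category.assoc _ _ _))
      _ = n'.left ≫ R'.hom ≫ r := congrArg (n'.left ≫ ·) e0
      _ = N'.hom ≫ r := (Category.assoc _ _ _).symm.trans (congrArg (· ≫ r) (left_hom n'))
  refine ⟨lift r (U := N) (W := N') k hk2, ?_⟩
  apply hom_ext_bc r
  refine (Category.assoc _ _ _).trans (hk.symm.trans ?_)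
  symm
  refine (Category.assoc _ _ _).trans ?_
  refine (congrArg ((lift r (U := N) (W := N') k hk2).left ≫ ·) (bc_map_left_pr r n)).trans ?_
  refine (Category.assoc _ _ _).symm.trans ?_
  exact congrArg (· ≫ n.left) (lift_left_pr r (U := N) (W := N') k hk2)

variable (U₀ : R.left.Opens) (U₀' : R'.left.Opens)
  (hU : ∀ z : R'.left, z ∈ U₀' → (σ.left ≫ pr r R) z ∈ U₀)

include hU in
theorem range_subset_rho : Set.range (U₀'.ι ≫ σ.left ≫ pr r R) ⊆ Set.range U₀.ι := by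
  rintro _ ⟨z, rfl⟩
  rw [U₀.range_ι]
  have h1 : U₀'.ι z ∈ Set.range U₀'.ι := ⟨z, rfl⟩
  rw [U₀'.range_ι] at h1
  have h2 : (U₀'.ι ≫ σ.left ≫ pr r R) z = (σ.left ≫ pr r R) (U₀'.ι z) :=
    Scheme.Hom.comp_apply _ _ _
  rw [h2]
  exact hU _ h1

include hU in
theorem exists_rho : ∃ ρ : opn R' U₀' ⟶ (EtCoh.bc r).obj (opn R U₀),
    opnι R' U₀' ≫ σ = ρ ≫ (EtCoh.bc r).map (opnι R U₀) := by
  have h := range_subset_rho r σ U₀ U₀' hU
  obtain ⟨k, hk⟩ : ∃ k : U₀'.toScheme ⟶ U₀.toScheme, k ≫ U₀.ι = U₀'.ι ≫ σ.left ≫ pr r R :=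
    ⟨IsOpenImmersion.lift U₀.ι _ h, IsOpenImmersion.lift_fac _ _ _⟩
  exact exists_rho' r σ (opnι R U₀) (opnι R' U₀') k hk

end rho

section bc

variable {P' S' X' Y' : Scheme.{u}} (π : P ⟶ S) (a : P' ⟶ P) (s : S' ⟶ S) (π' : P' ⟶ S')
  (w : π' ≫ s = a ≫ π) (f : X ⟶ S) (j : X ⟶ Y) [Etale j] (f' : X' ⟶ S') (j' : X' ⟶ Y') [Etale j']
  (r : Y' ⟶ Y) (x : X' ⟶ X) (hx : x ≫ j = j' ≫ r) (hf : x ≫ f = f' ≫ s)
  {O T : P.Etale} {o : O ⟶ T} [IsOpenImmersion o.left] {O' T' : P'.Etale} {o' : O' ⟶ T'}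
  [IsOpenImmersion o'.left] {R : Y.Etale} {R' : Y'.Etale}

/-- The natural transformation `j'_! f'⁻¹ s⁻¹ ⟶ r⁻¹ j_! f⁻¹` (of functors of étale sites). -/
def phiNT : ((pullCF s).comp (efCF f' j')).v ⟶ ((efCF f j).comp (pullCF r)).v :=
  thetaNT s f' j' f j r x hx hf

/-- **Base change of the class of a chart.** -/
theorem cls_res (G : GChart π f j o R) (G' : GChart π' f' j' o' R')
    (σ : R' ⟶ (EtCoh.bc r).obj R) (τ : T' ⟶ (EtCoh.bc a).obj T) (τ₀ : O' ⟶ (EtCoh.bc a).obj O)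
    (hτ : τ₀ ≫ (EtCoh.bc a).map o = o' ≫ τ) (g : G'.W.left ⟶ G.W.left)
    (hg1 : G'.i ≫ x = g ≫ G.i) (hg2 : g ≫ G.m.left = G'.m.left ≫ σ.left ≫ pr r R)
    (hg3 : g ≫ G.t = G'.t ≫ τ.left ≫ pr a T)
    (hU : ∀ z : R'.left, z ∈ G'.U₀ → (σ.left ≫ pr r R) z ∈ G.U₀) (M : EtCoh.Ab S) (N : ℕ)
    (u : Ext.{u + 1} (ZQ o) ((EtCoh.pull π).obj M) N) :
    (pullCF r).res σ ((efCF f j).L.obj M) N (G.cls M N u) =
      (G'.cls ((EtCoh.pull s).obj M) N
        ((extMap (EtCoh.pull a) (kap (A₀ := pullCF a) (o := o) (o' := o') τ τ₀ hτ)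
          ((EtCoh.pull π).obj M) N u).comp
          (Ext.mk₀ ((CF.tr (epsNT π a s π' w)).app M)) (add_zero N))).comp
        (Ext.mk₀ ((CF.tr (phiNT s f j f' j' r x hx hf)).app M)) (add_zero N) := by
  have h1 : g ≫ str G.W = str G'.W ≫ r := by
    change g ≫ G.W.hom = G'.W.hom ≫ r
    rw [← G.hi, ← G'.hi, ← Category.assoc, ← hg1, Category.assoc, hx, Category.assoc]
  have h2 : g ≫ G.t ≫ T.hom = (G'.t ≫ T'.hom) ≫ a := by
    rw [← Category.assoc, hg3, Category.assoc, Category.assoc, pr_hom, Category.assoc,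
      ← left_hom_assoc τ]
  have hω2 : g ≫ G.W.hom = G'.W.hom ≫ r := h1
  obtain ⟨ρ, hρ⟩ := exists_rho r σ G.U₀ G'.U₀ hU
  refine fcl_res (A := efCF (G.t ≫ T.hom) (str G.W)) (B := pullCF r) (A₀ := pullCF a)
    (A' := efCF (G'.t ≫ T'.hom) (str G'.W))
    (thetaNT a (G'.t ≫ T'.hom) (str G'.W) (G.t ≫ T.hom) (str G.W) r g h1 h2)
    G.chart G'.chart σ τ G.beta G'.beta (epsNT π a s π' w) (phiNT s f j f' j' r x hx hf)
    (fun V => compat_aux π a s π' w f j f' j' r x hx hf (G.t ≫ T.hom) (str G.W)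
      (G'.t ≫ T'.hom) (str G'.W) g h1 h2 G.i G.hi
      (G.comm.trans (Category.assoc _ _ _).symm) G'.i G'.hi
      (G'.comm.trans (Category.assoc _ _ _).symm) hg1 V)
    τ₀ hτ (lift r (U := G.W) (W := G'.W) g hω2) ?_ ?_ ρ hρ M N u
  · apply hom_ext_bc r
    refine (Category.assoc _ _ _).trans ?_
    symm
    refine (Category.assoc _ _ _).trans ?_
    refine (congrArg ((lift r (U := G.W) (W := G'.W) g hω2).left ≫ ·)
      (bc_map_left_pr r G.m)).trans ?_
    refine (Category.assoc _ _ _).symm.trans ?_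
    refine (congrArg (· ≫ G.m.left) (lift_left_pr r (U := G.W) (W := G'.W) g hω2)).trans ?_
    exact hg2
  · apply r_hom_ext
    · have e1 : ((efCF (G'.t ≫ T'.hom) (str G'.W)).v.map τ ≫
          (thetaNT a (G'.t ≫ T'.hom) (str G'.W) (G.t ≫ T.hom) (str G.W) r g h1 h2).app T).left ≫
          rT (G.t ≫ T.hom) (str G.W) r T =
          eT (G'.t ≫ T'.hom) (str G'.W) T' ≫ τ.left ≫ pr a T := by
        refine (Category.assoc _ _ _).trans ?_
        refine (congrArg (((efCF (G'.t ≫ T'.hom) (str G'.W)).v.map τ).left ≫ ·)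
          (thetaNT_rT a (G'.t ≫ T'.hom) (str G'.W) (G.t ≫ T.hom) (str G.W) r g h1 h2 T)).trans ?_
        refine (Category.assoc _ _ _).symm.trans ?_
        refine (congrArg (· ≫ pr a T) (map_eT (G'.t ≫ T'.hom) (str G'.W) τ)).trans ?_
        exact Category.assoc _ _ _
      refine (Category.assoc _ _ _).trans ?_
      refine (congrArg (G'.chart.lam.left ≫ ·) e1).trans ?_
      refine (Category.assoc _ _ _).symm.trans ?_
      refine (congrArg (· ≫ τ.left ≫ pr a T) G'.lam_eT).trans ?_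
      refine hg3.symm.trans ?_
      symm
      refine (Category.assoc _ _ _).trans ?_
      have e2 : ((EtCoh.bc r).map G.chart.lam).left ≫ rT (G.t ≫ T.hom) (str G.W) r T =
          pr r G.W ≫ G.t := by
        refine (Category.assoc _ _ _).symm.trans ?_
        refine (congrArg (· ≫ eT (G.t ≫ T.hom) (str G.W) T)
          (bc_map_left_pr r G.chart.lam)).trans ?_
        refine (Category.assoc _ _ _).trans ?_
        exact congrArg (pr r G.W ≫ ·) G.lam_eT
      refine (congrArg ((lift r (U := G.W) (W := G'.W) g hω2).left ≫ ·) e2).trans ?_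
      refine (Category.assoc _ _ _).symm.trans ?_
      exact congrArg (· ≫ G.t) (lift_left_pr r (U := G.W) (W := G'.W) g hω2)
    · have e1 : ((efCF (G'.t ≫ T'.hom) (str G'.W)).v.map τ ≫
          (thetaNT a (G'.t ≫ T'.hom) (str G'.W) (G.t ≫ T.hom) (str G.W) r g h1 h2).app T).left ≫
          rW (G.t ≫ T.hom) (str G.W) r T =
          eW (G'.t ≫ T'.hom) (str G'.W) T' ≫ g := by
        refine (Category.assoc _ _ _).trans ?_
        refine (congrArg (((efCF (G'.t ≫ T'.hom) (str G'.W)).v.map τ).left ≫ ·)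
          (thetaNT_rW a (G'.t ≫ T'.hom) (str G'.W) (G.t ≫ T.hom) (str G.W) r g h1 h2 T)).trans ?_
        refine (Category.assoc _ _ _).symm.trans ?_
        exact congrArg (· ≫ g) (map_eW (G'.t ≫ T'.hom) (str G'.W) τ)
      refine (Category.assoc _ _ _).trans ?_
      refine (congrArg (G'.chart.lam.left ≫ ·) e1).trans ?_
      refine (Category.assoc _ _ _).symm.trans ?_
      refine (congrArg (· ≫ g) G'.lam_eW).trans ?_
      refine (Category.id_comp _).trans ?_
      symm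
      refine (Category.assoc _ _ _).trans ?_
      have e2 : ((EtCoh.bc r).map G.chart.lam).left ≫ rW (G.t ≫ T.hom) (str G.W) r T =
          pr r G.W := by
        refine (Category.assoc _ _ _).symm.trans ?_
        refine (congrArg (· ≫ eW (G.t ≫ T.hom) (str G.W) T)
          (bc_map_left_pr r G.chart.lam)).trans ?_
        refine (Category.assoc _ _ _).trans ?_
        refine (congrArg (pr r G.W ≫ ·) G.lam_eW).trans ?_
        exact Category.comp_id _
      refine (congrArg ((lift r (U := G.W) (W := G'.W) g hω2).left ≫ ·) e2).trans ?_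
      exact lift_left_pr r (U := G.W) (W := G'.W) g hω2

end bc

end

end Groth.Agent.Etdl.H440.CF
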