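/-
Pulling back `j_! f⁻¹ M` along `r : Y' ⟶ Y` without changing the base; composition of inverse
images; restriction of the pulled back classes.
-/
import Groth.Agent.Etdl.H440.CFBC

set_option autoImplicit false
set_option linter.dupNamespace false
universe u
open CategoryTheory CategoryTheory.Limits AlgebraicGeometry Opposite Abelian
open Groth.Agent.Sga4B.DualShape Groth.Agent.Sga4B.EUConst
open Groth.Agent.EtpbcB.BCCalc
open Groth.Agent.EtpbcA.OverSite (str)
open scoped Groth.Agent.Etcore.EtInst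
open Groth.Agent.Etcore.EtInst
open Groth.Agent.Etcore.ExtMap (extMap extMap_apply)

namespace Groth.Agent.Etdl.H440.CF

noncomputable section

variable {X Y P S : Scheme.{u}}

/-! ### Composition of inverse images -/

section comp

variable {Z : Scheme.{u}} (t : Y ⟶ Z) (f : X ⟶ Y) (f₀ : X ⟶ Z) (w : f ≫ t = f₀)

include w in
theorem comp_aux (V : Z.Etale) :
    (pr f ((EtCoh.bc t).obj V) ≫ pr t V) ≫ V.hom = ((EtCoh.bc f).obj ((EtCoh.bc t).obj V)).hom ≫
      f₀ := by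
  rw [Category.assoc, pr_hom, ← Category.assoc, pr_hom, Category.assoc, w]

/-- `X ×_Y (Y ×_Z V) ⟶ X ×_Z V`. -/
def compApp (V : Z.Etale) : (EtCoh.bc f).obj ((EtCoh.bc t).obj V) ⟶ (EtCoh.bc f₀).obj V :=
  lift f₀ (pr f ((EtCoh.bc t).obj V) ≫ pr t V) (comp_aux t f f₀ w V)

theorem compApp_pr (V : Z.Etale) : (compApp t f f₀ w V).left ≫ pr f₀ V =
    pr f ((EtCoh.bc t).obj V) ≫ pr t V := lift_left_pr f₀ _ (comp_aux t f f₀ w V)

/-- `X ×_Y (Y ×_Z V) ⟶ X ×_Z V`. -/
def compNT : ((pullCF t).comp (pullCF f)).v ⟶ (pullCF f₀).v where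
  app V := compApp t f f₀ w V
  naturality V V' g := by
    apply hom_ext_bc f₀
    refine (Category.assoc _ _ _).trans ?_
    refine (congrArg ((((pullCF t).comp (pullCF f)).v.map g).left ≫ ·)
      (compApp_pr t f f₀ w V')).trans ?_
    refine (Category.assoc _ _ _).symm.trans ?_
    refine (congrArg (· ≫ pr t V') (bc_map_left_pr f ((EtCoh.bc t).map g))).trans ?_
    refine (Category.assoc _ _ _).trans ?_
    refine (congrArg (pr f _ ≫ ·) (bc_map_left_pr t g)).trans ?_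
    symm
    refine (Category.assoc _ _ _).trans ?_
    refine (congrArg ((compApp t f f₀ w V).left ≫ ·) (bc_map_left_pr f₀ g)).trans ?_
    refine (Category.assoc _ _ _).symm.trans ?_
    refine (congrArg (· ≫ g.left) (compApp_pr t f f₀ w V)).trans ?_
    exact Category.assoc _ _ _

theorem compNT_pr (V : Z.Etale) : ((compNT t f f₀ w).app V).left ≫ pr f₀ V =
    pr f ((EtCoh.bc t).obj V) ≫ pr t V := compApp_pr t f f₀ w V

end comp

/-! ### The natural transformation without change of base -/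

section thetaI

variable {Y' X' : Scheme.{u}} (f : X ⟶ S) (j : X ⟶ Y) [Etale j] (j' : X' ⟶ Y') [Etale j']
  (r : Y' ⟶ Y) (x : X' ⟶ X) (h1 : x ≫ j = j' ≫ r) (f' : X' ⟶ S) (h2 : x ≫ f = f')

include h1 in
omit [Etale j] in
theorem thetaI_aux (T : S.Etale) : (eW f' j' T ≫ x) ≫ j = ((efCF f' j').v.obj T).hom ≫ r :=
  (Category.assoc _ _ _).trans ((congrArg (eW f' j' T ≫ ·) h1).trans (Category.assoc _ _ _).symm)

include h2 in
theorem thetaI_aux' (T : S.Etale) : eT f' j' T ≫ T.hom = (eW f' j' T ≫ x) ≫ f :=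
  (e_w f' j' T).trans ((congrArg (eW f' j' T ≫ ·) h2.symm).trans (Category.assoc _ _ _).symm)

/-- `X' ×_S T ⟶ Y' ×_Y (X ×_S T)`. -/
def thetaIApp (T : S.Etale) : (efCF f' j').v.obj T ⟶ ((efCF f j).comp (pullCF r)).v.obj T :=
  rLift f j r (eW f' j' T ≫ x) (thetaI_aux j j' r x h1 f' T) (eT f' j' T)
    (thetaI_aux' f j' x f' h2 T)

theorem thetaIApp_rT (T : S.Etale) : (thetaIApp f j j' r x h1 f' h2 T).left ≫ rT f j r T =
    eT f' j' T := rLift_rT f j r _ (thetaI_aux j j' r x h1 f' T) _ (thetaI_aux' f j' x f' h2 T)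

theorem thetaIApp_rW (T : S.Etale) : (thetaIApp f j j' r x h1 f' h2 T).left ≫ rW f j r T =
    eW f' j' T ≫ x := rLift_rW f j r _ (thetaI_aux j j' r x h1 f' T) _ (thetaI_aux' f j' x f' h2 T)

/-- `X' ×_S T ⟶ Y' ×_Y (X ×_S T)`. -/
def thetaI : (efCF f' j').v ⟶ ((efCF f j).comp (pullCF r)).v where
  app T := thetaIApp f j j' r x h1 f' h2 T
  naturality T T' g := by
    apply r_hom_ext
    · refine (Category.assoc _ _ _).trans ?_
      refine (congrArg (((efCF f' j').v.map g).left ≫ ·)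
        (thetaIApp_rT f j j' r x h1 f' h2 T')).trans ?_
      refine (map_eT f' j' g).trans ?_
      symm
      refine (Category.assoc _ _ _).trans ?_
      refine (congrArg ((thetaIApp f j j' r x h1 f' h2 T).left ≫ ·) (map_rT f j r g)).trans ?_
      refine (Category.assoc _ _ _).symm.trans ?_
      exact congrArg (· ≫ g.left) (thetaIApp_rT f j j' r x h1 f' h2 T)
    · refine (Category.assoc _ _ _).trans ?_
      refine (congrArg (((efCF f' j').v.map g).left ≫ ·)
        (thetaIApp_rW f j j' r x h1 f' h2 T')).trans ?_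
      refine (Category.assoc _ _ _).symm.trans ?_
      refine (congrArg (· ≫ x) (map_eW f' j' g)).trans ?_
      symm
      refine (Category.assoc _ _ _).trans ?_
      refine (congrArg ((thetaIApp f j j' r x h1 f' h2 T).left ≫ ·) (map_rW f j r g)).trans ?_
      exact thetaIApp_rW f j j' r x h1 f' h2 T

theorem thetaI_rT (T : S.Etale) : ((thetaI f j j' r x h1 f' h2).app T).left ≫ rT f j r T =
    eT f' j' T := thetaIApp_rT f j j' r x h1 f' h2 T

theorem thetaI_rW (T : S.Etale) : ((thetaI f j j' r x h1 f' h2).app T).left ≫ rW f j r T =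
    eW f' j' T ≫ x := thetaIApp_rW f j j' r x h1 f' h2 T

end thetaI

/-- `j'_! f'⁻¹ M ⟶ r⁻¹ j_! f⁻¹ M`. -/
def toPull {Y' X' : Scheme.{u}} (f : X ⟶ S) (j : X ⟶ Y) [Etale j] (j' : X' ⟶ Y') [Etale j']
    (r : Y' ⟶ Y) (x : X' ⟶ X) (h1 : x ≫ j = j' ≫ r) (f' : X' ⟶ S) (h2 : x ≫ f = f')
    (M : EtCoh.Ab S) : (efCF f' j').L.obj M ⟶ (EtCoh.pull r).obj ((efCF f j).L.obj M) :=
  (CF.tr (thetaI f j j' r x h1 f' h2)).app M

/-- `s⁻¹`-version: `j'_! f'⁻¹ s⁻¹ M ⟶ r⁻¹ j_! f⁻¹ M`. -/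
def toPullS {Y' X' S' : Scheme.{u}} (s : S' ⟶ S) (f : X ⟶ S) (j : X ⟶ Y) [Etale j]
    (f' : X' ⟶ S') (j' : X' ⟶ Y') [Etale j']
    (r : Y' ⟶ Y) (x : X' ⟶ X) (h1 : x ≫ j = j' ≫ r) (h2 : x ≫ f = f' ≫ s)
    (M : EtCoh.Ab S) :
    (efCF f' j').L.obj ((EtCoh.pull s).obj M) ⟶ (EtCoh.pull r).obj ((efCF f j).L.obj M) :=
  (CF.tr (phiNT s f j f' j' r x h1 h2)).app M

/-- `y⁻¹ r⁻¹ F ⟶ r₀⁻¹ F`. -/
def pc {Y' Y'' : Scheme.{u}} (r : Y' ⟶ Y) (y : Y'' ⟶ Y') (r₀ : Y'' ⟶ Y) (w : y ≫ r = r₀)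
    (F : EtCoh.Ab Y) : (EtCoh.pull y).obj ((EtCoh.pull r).obj F) ⟶ (EtCoh.pull r₀).obj F :=
  (CF.tr (compNT r y r₀ w)).app F

section two

variable {Y' Y'' X' X'' S'' : Scheme.{u}} (f : X ⟶ S) (j : X ⟶ Y) [Etale j] (j' : X' ⟶ Y')
  [Etale j'] (r : Y' ⟶ Y) (x : X' ⟶ X) (h1 : x ≫ j = j' ≫ r) (f' : X' ⟶ S) (h2 : x ≫ f = f')
  (s : S'' ⟶ S) (f'' : X'' ⟶ S'') (j'' : X'' ⟶ Y'') [Etale j''] (y : Y'' ⟶ Y') (x' : X'' ⟶ X')
  (h3 : x' ≫ j' = j'' ≫ y) (h4 : x' ≫ f' = f'' ≫ s) (r₀ : Y'' ⟶ Y) (w : y ≫ r = r₀)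
  (x₀ : X'' ⟶ X) (hx₀ : x' ≫ x = x₀) (h5 : x₀ ≫ j = j'' ≫ r₀) (h6 : x₀ ≫ f = f'' ≫ s)

include hx₀ in
theorem toPullS_trans_aux (V : S.Etale) :
    (phiNT s f' j' f'' j'' y x' h3 h4).app V ≫ (EtCoh.bc y).map ((thetaI f j j' r x h1 f' h2).app V)
      ≫ (compNT r y r₀ w).app ((efCF f j).v.obj V) =
      (phiNT s f j f'' j'' r₀ x₀ h5 h6).app V := by
  have key : ∀ {Q : Scheme.{u}} (κ : ((efCF f j).v.obj V).left ⟶ Q)
      (κ' : (((efCF f j).comp (pullCF r)).v.obj V).left ⟶ Q) (_ : pr r _ ≫ κ = κ')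
      (κ'' : ((efCF f' j').v.obj V).left ⟶ Q)
      (_ : ((thetaI f j j' r x h1 f' h2).app V).left ≫ κ' = κ''),
      ((phiNT s f' j' f'' j'' y x' h3 h4).app V ≫
        (EtCoh.bc y).map ((thetaI f j j' r x h1 f' h2).app V) ≫
          (compNT r y r₀ w).app ((efCF f j).v.obj V)).left ≫ pr r₀ _ ≫ κ =
      ((phiNT s f' j' f'' j'' y x' h3 h4).app V).left ≫ pr y _ ≫ κ'' := by
    intro Q κ κ' hκ κ'' hκ'
    refine (Category.assoc _ _ _).trans ?_
    refine congrArg (((phiNT s f' j' f'' j'' y x' h3 h4).app V).left ≫ ·) ?_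
    refine (Category.assoc _ _ _).trans ?_
    refine (congrArg (((EtCoh.bc y).map ((thetaI f j j' r x h1 f' h2).app V)).left ≫ ·)
      ((Category.assoc _ _ _).symm.trans (congrArg (· ≫ κ) (compNT_pr r y r₀ w _)))).trans ?_
    refine (congrArg (((EtCoh.bc y).map ((thetaI f j j' r x h1 f' h2).app V)).left ≫ ·)
      ((Category.assoc _ _ _).trans (congrArg (pr y _ ≫ ·) hκ))).trans ?_
    refine (Category.assoc _ _ _).symm.trans ?_
    refine (congrArg (· ≫ κ') (bc_map_left_pr y ((thetaI f j j' r x h1 f' h2).app V))).trans ?_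
    refine (Category.assoc _ _ _).trans ?_
    exact congrArg (pr y _ ≫ ·) hκ'
  apply r_hom_ext f j r₀
  · refine (key (eT f j V) (rT f j r V) rfl _ (thetaI_rT f j j' r x h1 f' h2 V)).trans ?_
    refine Eq.trans ?_ (thetaNT_rT s f'' j'' f j r₀ x₀ h5 h6 V).symm
    exact thetaNT_rT s f'' j'' f' j' y x' h3 h4 V
  · refine (key (eW f j V) (rW f j r V) rfl _ (thetaI_rW f j j' r x h1 f' h2 V)).trans ?_
    refine Eq.trans ?_ (thetaNT_rW s f'' j'' f j r₀ x₀ h5 h6 V).symm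
    refine (congrArg (((phiNT s f' j' f'' j'' y x' h3 h4).app V).left ≫ ·)
      (Category.assoc _ _ _).symm).trans ?_
    refine (Category.assoc _ _ _).symm.trans ?_
    refine (congrArg (· ≫ x) (thetaNT_rW s f'' j'' f' j' y x' h3 h4 V)).trans ?_
    exact (Category.assoc _ _ _).trans (congrArg (eW f'' j'' _ ≫ ·) hx₀)

include hx₀ in
/-- Transitivity of the comparison maps. -/
theorem toPullS_trans (M : EtCoh.Ab S) :
    toPullS s f' j' f'' j'' y x' h3 h4 M ≫ (EtCoh.pull y).map (toPull f j j' r x h1 f' h2 M) ≫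
      pc r y r₀ w ((efCF f j).L.obj M) = toPullS s f j f'' j'' r₀ x₀ h5 h6 M := by
  apply CF.hom_ext ((pullCF s).comp (efCF f'' j''))
  intro V m
  have e0 : ((pullCF s).comp (efCF f'' j'')).un m = (efCF f'' j'').un ((pullCF s).un m) :=
    CF.comp_un _ _ m
  -- right hand side
  have r1 : (toPullS s f j f'' j'' r₀ x₀ h5 h6 M).hom.app
      (op (((pullCF s).comp (efCF f'' j'')).v.obj V))
      (((pullCF s).comp (efCF f'' j'')).un m) =
      ((EtCoh.pull r₀).obj ((efCF f j).L.obj M)).obj.map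
        ((phiNT s f j f'' j'' r₀ x₀ h5 h6).app V).op
        ((pullCF r₀).un ((efCF f j).un m)) := by
    have := CF.tr_un (phiNT s f j f'' j'' r₀ x₀ h5 h6) m
    refine this.trans ?_
    exact congrArg _ (CF.comp_un (efCF f j) (pullCF r₀) m)
  -- left hand side
  have l1 : (toPullS s f' j' f'' j'' y x' h3 h4 M).hom.app
      (op (((pullCF s).comp (efCF f'' j'')).v.obj V))
      (((pullCF s).comp (efCF f'' j'')).un m) =
      ((EtCoh.pull y).obj ((efCF f' j').L.obj M)).obj.map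
        ((phiNT s f' j' f'' j'' y x' h3 h4).app V).op
        ((pullCF y).un ((efCF f' j').un m)) := by
    have := CF.tr_un (phiNT s f' j' f'' j'' y x' h3 h4) m
    refine this.trans ?_
    exact congrArg _ (CF.comp_un (efCF f' j') (pullCF y) m)
  have l2 : ((EtCoh.pull y).map (toPull f j j' r x h1 f' h2 M)).hom.app
      (op ((pullCF y).v.obj ((efCF f' j').v.obj V))) ((pullCF y).un ((efCF f' j').un m)) =
      ((EtCoh.pull y).obj ((EtCoh.pull r).obj ((efCF f j).L.obj M))).obj.map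
        ((EtCoh.bc y).map ((thetaI f j j' r x h1 f' h2).app V)).op
        ((pullCF y).un ((pullCF r).un ((efCF f j).un m))) := by
    refine ((pullCF y).map_un (toPull f j j' r x h1 f' h2 M) ((efCF f' j').un m)).trans ?_
    have := CF.tr_un (thetaI f j j' r x h1 f' h2) m
    refine (congrArg (pullCF y).un this).trans ?_
    refine (congrArg (fun z => (pullCF y).un (((EtCoh.pull r).obj
      ((efCF f j).L.obj M)).obj.map ((thetaI f j j' r x h1 f' h2).app V).op z))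
        (CF.comp_un (efCF f j) (pullCF r) m)).trans ?_
    exact (pullCF y).un_res ((thetaI f j j' r x h1 f' h2).app V) _
  have l3 : (pc r y r₀ w ((efCF f j).L.obj M)).hom.app
      (op ((pullCF y).v.obj ((pullCF r).v.obj ((efCF f j).v.obj V))))
      ((pullCF y).un ((pullCF r).un ((efCF f j).un m))) =
      ((EtCoh.pull r₀).obj ((efCF f j).L.obj M)).obj.map
        ((compNT r y r₀ w).app ((efCF f j).v.obj V)).op
        ((pullCF r₀).un ((efCF f j).un m)) := by
    have := CF.tr_un (compNT r y r₀ w) ((efCF f j).un m)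
    rw [CF.comp_un] at this
    exact this
  refine Eq.trans ?_ r1.symm
  refine (congrArg (fun z => (pc r y r₀ w ((efCF f j).L.obj M)).hom.app _
    (((EtCoh.pull y).map (toPull f j j' r x h1 f' h2 M)).hom.app _ z)) l1).trans ?_
  refine (congrArg ((pc r y r₀ w ((efCF f j).L.obj M)).hom.app _)
    (ConcreteCategory.congr_hom (((EtCoh.pull y).map
      (toPull f j j' r x h1 f' h2 M)).hom.naturality
        ((phiNT s f' j' f'' j'' y x' h3 h4).app V).op) _)).trans ?_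
  refine (ConcreteCategory.congr_hom ((pc r y r₀ w ((efCF f j).L.obj M)).hom.naturality
    ((phiNT s f' j' f'' j'' y x' h3 h4).app V).op) _).trans ?_
  refine (congrArg (fun z => ((EtCoh.pull r₀).obj ((efCF f j).L.obj M)).obj.map
    ((phiNT s f' j' f'' j'' y x' h3 h4).app V).op
      ((pc r y r₀ w ((efCF f j).L.obj M)).hom.app _ z)) l2).trans ?_
  refine (congrArg (((EtCoh.pull r₀).obj ((efCF f j).L.obj M)).obj.map
    ((phiNT s f' j' f'' j'' y x' h3 h4).app V).op)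
      (ConcreteCategory.congr_hom ((pc r y r₀ w ((efCF f j).L.obj M)).hom.naturality
        ((EtCoh.bc y).map ((thetaI f j j' r x h1 f' h2).app V)).op) _)).trans ?_
  refine (congrArg (fun z => ((EtCoh.pull r₀).obj ((efCF f j).L.obj M)).obj.map
    ((phiNT s f' j' f'' j'' y x' h3 h4).app V).op
      (((EtCoh.pull r₀).obj ((efCF f j).L.obj M)).obj.map
        ((EtCoh.bc y).map ((thetaI f j j' r x h1 f' h2).app V)).op z)) l3).trans ?_
  refine (congrArg (((EtCoh.pull r₀).obj ((efCF f j).L.obj M)).obj.map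
    ((phiNT s f' j' f'' j'' y x' h3 h4).app V).op) (map_map _ _ _ _)).trans ?_
  refine (map_map ((EtCoh.pull r₀).obj ((efCF f j).L.obj M)) _ _ _).trans ?_
  refine congrArg (fun (k : ((pullCF s).comp (efCF f'' j'')).v.obj V ⟶
    (EtCoh.bc r₀).obj ((efCF f j).v.obj V)) =>
      ((EtCoh.pull r₀).obj ((efCF f j).L.obj M)).obj.map k.op
        ((pullCF r₀).un ((efCF f j).un m))) ?_
  -- equality of morphisms
  exact toPullS_trans_aux f j j' r x h1 f' h2 s f'' j'' y x' h3 h4 r₀ w x₀ hx₀ h5 h6 V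

end two

end

end Groth.Agent.Etdl.H440.CF
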