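/-
Functoriality of `j_! f⁻¹ M` and of the classes of charts in `X`.
-/
import Groth.Agent.Etdl.H440.CFPull

set_option autoImplicit false
set_option linter.dupNamespace false
universe u
open CategoryTheory CategoryTheory.Limits AlgebraicGeometry Opposite Abelian
open Groth.Agent.Sga4B.DualShape Groth.Agent.Sga4B.EUConst
open Groth.Agent.EtpbcB.BCCalc
open Groth.Agent.EtpbcA.OverSite (str)
open scoped Groth.Agent.Etcore.EtInst
open Groth.Agent.Etcore.EtInst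
open Groth.Agent.Etcore.ExtMap (extMap extMap_apply)

namespace Groth.Agent.Etdl.H440.CF

noncomputable section

variable {X Y Z P S : Scheme.{u}}

/-! ### Calculus of `tr` -/

theorem tr_comp {A B C : CF P Y} (θ : A.v ⟶ B.v) (η : B.v ⟶ C.v) (M : EtCoh.Ab P) :
    (CF.tr θ).app M ≫ (CF.tr η).app M = (CF.tr (θ ≫ η)).app M := by
  apply A.hom_ext
  intro V m
  refine (congrArg (((CF.tr η).app M).hom.app _) (CF.tr_un θ m)).trans ?_
  refine (ConcreteCategory.congr_hom (((CF.tr η).app M).hom.naturality (θ.app V).op)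
    (B.un m)).trans ?_
  refine (congrArg ((C.L.obj M).obj.map (θ.app V).op) (CF.tr_un η m)).trans ?_
  refine (map_map _ _ _ _).trans ?_
  exact (CF.tr_un (θ ≫ η) m).symm

theorem map_tr {A B : CF P Y} (C : CF Y Z) (θ : A.v ⟶ B.v) (M : EtCoh.Ab P) :
    C.L.map ((CF.tr θ).app M) = (CF.tr (A' := A.comp C) (A := B.comp C)
      (Functor.whiskerRight θ C.v)).app M := by
  apply (A.comp C).hom_ext
  intro V m
  refine Eq.trans ?_ (CF.tr_un (A' := A.comp C) (A := B.comp C)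
    (Functor.whiskerRight θ C.v) m).symm
  refine (congrArg ((C.L.map ((CF.tr θ).app M)).hom.app _) (CF.comp_un A C m)).trans ?_
  refine (C.map_un ((CF.tr θ).app M) (A.un m)).trans ?_
  refine (congrArg C.un (CF.tr_un θ m)).trans ?_
  refine (C.un_res (θ.app V) (B.un m)).trans ?_
  exact congrArg ((C.L.obj (B.L.obj M)).obj.map (C.v.map (θ.app V)).op) (CF.comp_un B C m).symm

theorem tr_app_obj {A B : CF Y Z} (C : CF P Y) (θ : A.v ⟶ B.v) (M : EtCoh.Ab P) :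
    (CF.tr θ).app (C.L.obj M) = (CF.tr (A' := C.comp A) (A := C.comp B)
      (Functor.whiskerLeft C.v θ)).app M := by
  apply (C.comp A).hom_ext
  intro V m
  refine Eq.trans ?_ (CF.tr_un (A' := C.comp A) (A := C.comp B)
    (Functor.whiskerLeft C.v θ) m).symm
  refine (congrArg (((CF.tr θ).app (C.L.obj M)).hom.app _) (CF.comp_un C A m)).trans ?_
  refine (CF.tr_un θ (C.un m)).trans ?_
  exact congrArg ((B.L.obj (C.L.obj M)).obj.map (θ.app (C.v.obj V)).op) (CF.comp_un C B m).symm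

theorem tr_id (A : CF P Y) (M : EtCoh.Ab P) : (CF.tr (𝟙 A.v)).app M = 𝟙 (A.L.obj M) := by
  apply A.hom_ext
  intro V m
  refine (CF.tr_un (𝟙 A.v) m).trans ?_
  exact ConcreteCategory.congr_hom ((A.L.obj M).obj.map_id (op (A.v.obj V))) (A.un m)

theorem isIso_tr {A B : CF P Y} (θ : A.v ⟶ B.v) [IsIso θ] (M : EtCoh.Ab P) :
    IsIso ((CF.tr θ).app M) := by
  have h : (CF.tr θ).app M = ((CF.trIso (asIso θ)).app M).hom := rfl
  rw [h]
  infer_instance

/-! ### Functoriality in `X` -/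

section xnt

variable {X₂ : Scheme.{u}} (f : X ⟶ S) (j : X ⟶ Y) [Etale j] (f₂ : X₂ ⟶ S) (j₂ : X₂ ⟶ Y) [Etale j₂]
  (h : X ⟶ X₂) (hj : h ≫ j₂ = j) (hf : h ≫ f₂ = f)

include hj in
omit [Etale j₂] in
theorem x_aux (V : S.Etale) : (eW f j V ≫ h) ≫ j₂ = ((efCF f j).v.obj V).hom :=
  (Category.assoc _ _ _).trans (congrArg (eW f j V ≫ ·) hj)

include hf in
theorem x_aux' (V : S.Etale) : eT f j V ≫ V.hom = (eW f j V ≫ h) ≫ f₂ :=
  (e_w f j V).trans ((congrArg (eW f j V ≫ ·) hf.symm).trans (Category.assoc _ _ _).symm)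

/-- `X ×_S V ⟶ X₂ ×_S V`. -/
def xApp (V : S.Etale) : (efCF f j).v.obj V ⟶ (efCF f₂ j₂).v.obj V :=
  eLift f₂ j₂ (eW f j V ≫ h) (x_aux f j j₂ h hj V) (eT f j V) (x_aux' f j f₂ h hf V)

theorem xApp_eT (V : S.Etale) : (xApp f j f₂ j₂ h hj hf V).left ≫ eT f₂ j₂ V = eT f j V :=
  eLift_eT f₂ j₂ _ (x_aux f j j₂ h hj V) _ (x_aux' f j f₂ h hf V)

theorem xApp_eW (V : S.Etale) : (xApp f j f₂ j₂ h hj hf V).left ≫ eW f₂ j₂ V = eW f j V ≫ h :=
  eLift_eW f₂ j₂ _ (x_aux f j j₂ h hj V) _ (x_aux' f j f₂ h hf V)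

/-- `X ×_S V ⟶ X₂ ×_S V`. -/
def xNT : (efCF f j).v ⟶ (efCF f₂ j₂).v where
  app V := xApp f j f₂ j₂ h hj hf V
  naturality V V' g := by
    apply e_hom_ext
    · refine (Category.assoc _ _ _).trans ?_
      refine (congrArg (((efCF f j).v.map g).left ≫ ·) (xApp_eT f j f₂ j₂ h hj hf V')).trans ?_
      refine (map_eT f j g).trans ?_
      symm
      refine (Category.assoc _ _ _).trans ?_
      refine (congrArg ((xApp f j f₂ j₂ h hj hf V).left ≫ ·) (map_eT f₂ j₂ g)).trans ?_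
      refine (Category.assoc _ _ _).symm.trans ?_
      exact congrArg (· ≫ g.left) (xApp_eT f j f₂ j₂ h hj hf V)
    · refine (Category.assoc _ _ _).trans ?_
      refine (congrArg (((efCF f j).v.map g).left ≫ ·) (xApp_eW f j f₂ j₂ h hj hf V')).trans ?_
      refine (Category.assoc _ _ _).symm.trans ?_
      refine (congrArg (· ≫ h) (map_eW f j g)).trans ?_
      symm
      refine (Category.assoc _ _ _).trans ?_
      refine (congrArg ((xApp f j f₂ j₂ h hj hf V).left ≫ ·) (map_eW f₂ j₂ g)).trans ?_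
      exact xApp_eW f j f₂ j₂ h hj hf V

/-- `j_! f⁻¹ M ⟶ j₂_! f₂⁻¹ M`. -/
def xM (M : EtCoh.Ab S) : (efCF f j).L.obj M ⟶ (efCF f₂ j₂).L.obj M :=
  (CF.tr (xNT f j f₂ j₂ h hj hf)).app M

/-- Value on the canonical sections. -/
theorem xM_un (M : EtCoh.Ab S) {V : S.Etale} (m : EtCoh.sect M V) :
    (xM f j f₂ j₂ h hj hf M).hom.app (op ((efCF f j).v.obj V)) ((efCF f j).un m) =
      ((efCF f₂ j₂).L.obj M).obj.map (xApp f j f₂ j₂ h hj hf V).op ((efCF f₂ j₂).un m) :=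
  CF.tr_un (xNT f j f₂ j₂ h hj hf) m

end xnt

namespace GChart

variable {π : P ⟶ S} {f : X ⟶ S} {j : X ⟶ Y} [Etale j] {O T : P.Etale} {o : O ⟶ T}
  [IsOpenImmersion o.left] {R : Y.Etale} (G : GChart π f j o R)
  {X₂ : Scheme.{u}} {f₂ : X₂ ⟶ S} {j₂ : X₂ ⟶ Y} [Etale j₂]
  (h : X ⟶ X₂) (hj : h ≫ j₂ = j) (hf : h ≫ f₂ = f)

/-- The same chart, for `X₂`. -/
@[reducible] def push : GChart π f₂ j₂ o R where
  W := G.W
  m := G.m
  i := G.i ≫ h
  hi := by rw [Category.assoc, hj, G.hi]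
  t := G.t
  comm := by rw [Category.assoc, hf, G.comm]
  U₀ := G.U₀
  cov := G.cov
  van := G.van
  agree := G.agree

/-- Functoriality of the class of a chart. -/
theorem cls_push (M : EtCoh.Ab S) (N : ℕ) (c : Ext.{u + 1} (ZQ o) ((EtCoh.pull π).obj M) N) :
    (G.push h hj hf).cls M N c =
      (G.cls M N c).comp (Ext.mk₀ (xM f j f₂ j₂ h hj hf M)) (add_zero N) := by
  have e : G.beta ≫ xNT f j f₂ j₂ h hj hf = (G.push h hj hf).beta := by
    apply NatTrans.ext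
    funext V
    apply e_hom_ext
    · refine (Category.assoc _ _ _).trans ?_
      refine (congrArg ((G.beta.app V).left ≫ ·) (xApp_eT f j f₂ j₂ h hj hf V)).trans ?_
      refine (betaApp_eT π (G.t ≫ T.hom) (str G.W) f j G.i G.hi
        (G.comm.trans (Category.assoc _ _ _).symm) V).trans ?_
      exact (betaApp_eT π (G.t ≫ T.hom) (str G.W) f₂ j₂ (G.i ≫ h) (G.push h hj hf).hi
        ((G.push h hj hf).comm.trans (Category.assoc _ _ _).symm) V).symm
    · refine (Category.assoc _ _ _).trans ?_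
      refine (congrArg ((G.beta.app V).left ≫ ·) (xApp_eW f j f₂ j₂ h hj hf V)).trans ?_
      refine (Category.assoc _ _ _).symm.trans ?_
      refine (congrArg (· ≫ h) (betaApp_eW π (G.t ≫ T.hom) (str G.W) f j G.i G.hi
        (G.comm.trans (Category.assoc _ _ _).symm) V)).trans ?_
      refine (Category.assoc _ _ _).trans ?_
      exact (betaApp_eW π (G.t ≫ T.hom) (str G.W) f₂ j₂ (G.i ≫ h) (G.push h hj hf).hi
        ((G.push h hj hf).comm.trans (Category.assoc _ _ _).symm) V).symm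
  have e1 : (CF.tr (G.push h hj hf).beta).app M =
      (CF.tr G.beta).app M ≫ (CF.tr (xNT f j f₂ j₂ h hj hf)).app M :=
    (congrArg (fun k => (CF.tr k).app M) e).symm.trans (tr_comp G.beta _ M).symm
  have e2 : (G.push h hj hf).cls M N c = (G.chart.cl N c).comp
      (Ext.mk₀ ((CF.tr (G.push h hj hf).beta).app M)) (add_zero N) := rfl
  have e3 : G.cls M N c = (G.chart.cl N c).comp
      (Ext.mk₀ ((CF.tr G.beta).app M)) (add_zero N) := rfl
  refine e2.trans ?_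
  refine (congrArg (fun k => (G.chart.cl N c).comp (Ext.mk₀ k) (add_zero N)) e1).trans ?_
  refine Eq.trans ?_ (congrArg (fun k => Ext.comp k (Ext.mk₀ (xM f j f₂ j₂ h hj hf M))
    (add_zero N)) e3.symm)
  refine (congrArg (fun k => (G.chart.cl N c).comp k (add_zero N)) (Ext.mk₀_comp_mk₀ _ _).symm).trans
    ?_
  exact (Ext.comp_assoc_of_third_deg_zero _ _ _ _).symm

end GChart

/-! ### Base change -/

section bcx

variable {Y' X' X₂ X₂' S' : Scheme.{u}} (s : S' ⟶ S)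
  (f : X ⟶ S) (j : X ⟶ Y) [Etale j] (f' : X' ⟶ S') (j' : X' ⟶ Y') [Etale j']
  (f₂ : X₂ ⟶ S) (j₂ : X₂ ⟶ Y) [Etale j₂] (f₂' : X₂' ⟶ S') (j₂' : X₂' ⟶ Y') [Etale j₂']
  (r : Y' ⟶ Y) (x : X' ⟶ X) (h1 : x ≫ j = j' ≫ r) (h2 : x ≫ f = f' ≫ s)
  (x₂ : X₂' ⟶ X₂) (h3 : x₂ ≫ j₂ = j₂' ≫ r) (h4 : x₂ ≫ f₂ = f₂' ≫ s)
  (h : X ⟶ X₂) (hj : h ≫ j₂ = j) (hf : h ≫ f₂ = f)
  (h' : X' ⟶ X₂') (hj' : h' ≫ j₂' = j') (hf' : h' ≫ f₂' = f') (hx : h' ≫ x₂ = x ≫ h)

include hx in
theorem x_toPullS_aux (V : S.Etale) :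
    (phiNT s f j f' j' r x h1 h2).app V ≫ (EtCoh.bc r).map ((xNT f j f₂ j₂ h hj hf).app V) =
      (xNT f' j' f₂' j₂' h' hj' hf').app ((EtCoh.bc s).obj V) ≫
        (phiNT s f₂ j₂ f₂' j₂' r x₂ h3 h4).app V := by
  have key : ∀ {Q : Scheme.{u}} (κ : ((efCF f₂ j₂).v.obj V).left ⟶ Q)
      (κ' : ((efCF f j).v.obj V).left ⟶ Q) (_ : (xApp f j f₂ j₂ h hj hf V).left ≫ κ = κ'),
      ((phiNT s f j f' j' r x h1 h2).app V ≫
        (EtCoh.bc r).map ((xNT f j f₂ j₂ h hj hf).app V)).left ≫ pr r _ ≫ κ =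
      ((phiNT s f j f' j' r x h1 h2).app V).left ≫ pr r _ ≫ κ' := by
    intro Q κ κ' hκ
    refine (Category.assoc _ _ _).trans ?_
    refine congrArg (((phiNT s f j f' j' r x h1 h2).app V).left ≫ ·) ?_
    refine (Category.assoc _ _ _).symm.trans ?_
    refine (congrArg (· ≫ κ) (bc_map_left_pr r ((xNT f j f₂ j₂ h hj hf).app V))).trans ?_
    exact (Category.assoc _ _ _).trans (congrArg (pr r _ ≫ ·) hκ)
  apply r_hom_ext f₂ j₂ r
  · refine (key (eT f₂ j₂ V) (eT f j V) (xApp_eT f j f₂ j₂ h hj hf V)).trans ?_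
    refine (thetaNT_rT s f' j' f j r x h1 h2 V).trans ?_
    symm
    refine (Category.assoc _ _ _).trans ?_
    refine (congrArg (((xNT f' j' f₂' j₂' h' hj' hf').app ((EtCoh.bc s).obj V)).left ≫ ·)
      (thetaNT_rT s f₂' j₂' f₂ j₂ r x₂ h3 h4 V)).trans ?_
    refine (Category.assoc _ _ _).symm.trans ?_
    exact congrArg (· ≫ pr s V) (xApp_eT f' j' f₂' j₂' h' hj' hf' ((EtCoh.bc s).obj V))
  · refine (key (eW f₂ j₂ V) (eW f j V ≫ h) (xApp_eW f j f₂ j₂ h hj hf V)).trans ?_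
    refine (congrArg (((phiNT s f j f' j' r x h1 h2).app V).left ≫ ·)
      (Category.assoc _ _ _).symm).trans ?_
    refine (Category.assoc _ _ _).symm.trans ?_
    refine (congrArg (· ≫ h) (thetaNT_rW s f' j' f j r x h1 h2 V)).trans ?_
    symm
    refine (Category.assoc _ _ _).trans ?_
    refine (congrArg (((xNT f' j' f₂' j₂' h' hj' hf').app ((EtCoh.bc s).obj V)).left ≫ ·)
      (thetaNT_rW s f₂' j₂' f₂ j₂ r x₂ h3 h4 V)).trans ?_
    refine (Category.assoc _ _ _).symm.trans ?_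
    refine (congrArg (· ≫ x₂) (xApp_eW f' j' f₂' j₂' h' hj' hf' ((EtCoh.bc s).obj V))).trans ?_
    refine (Category.assoc _ _ _).trans ?_
    refine (congrArg (eW f' j' _ ≫ ·) hx).trans ?_
    exact (Category.assoc _ _ _).symm

include hx in
/-- Compatibility of base change with functoriality in `X`. -/
theorem toPullS_xM (M : EtCoh.Ab S) :
    toPullS s f j f' j' r x h1 h2 M ≫ (EtCoh.pull r).map (xM f j f₂ j₂ h hj hf M) =
      xM f' j' f₂' j₂' h' hj' hf' ((EtCoh.pull s).obj M) ≫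
        toPullS s f₂ j₂ f₂' j₂' r x₂ h3 h4 M := by
  have e1 := map_tr (pullCF r) (xNT f j f₂ j₂ h hj hf) M
  have e2 := tr_app_obj (pullCF s) (xNT f' j' f₂' j₂' h' hj' hf') M
  refine (congrArg ((CF.tr (phiNT s f j f' j' r x h1 h2)).app M ≫ ·) e1).trans ?_
  refine Eq.trans ?_ (congrArg (· ≫ (CF.tr (phiNT s f₂ j₂ f₂' j₂' r x₂ h3 h4)).app M) e2.symm)
  refine (tr_comp _ _ M).trans ?_
  refine Eq.trans ?_ (tr_comp _ _ M).symm
  refine congrArg (fun k => (CF.tr k).app M) ?_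
  apply NatTrans.ext
  funext V
  exact x_toPullS_aux s f j f' j' f₂ j₂ f₂' j₂' r x h1 h2 x₂ h3 h4 h hj hf h' hj' hf' hx V

end bcx

end

end Groth.Agent.Etdl.H440.CF
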