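/-
Morphisms of geometric charts over the same `P`, `S`, `Y`.
-/
import Groth.Agent.Etdl.H440.CFNat
import Groth.Agent.Etdl.H433.IdNT

set_option autoImplicit false
set_option linter.dupNamespace false
universe u
open CategoryTheory CategoryTheory.Limits AlgebraicGeometry Opposite Abelian
open Groth.Agent.Sga4B.DualShape Groth.Agent.Sga4B.EUConst
open Groth.Agent.EtpbcB.BCCalc
open Groth.Agent.Etbase.EtGlue (opn opnι)
open Groth.Agent.EtpbcA.OverSite (str)
open scoped Groth.Agent.Etcore.EtInst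
open Groth.Agent.Etcore.EtInst
open Groth.Agent.Etcore.ExtMap (extMap extMap_apply)

namespace Groth.Agent.Etdl.H440.CF

noncomputable section

variable {X Y P S : Scheme.{u}}

namespace GChart

variable {π : P ⟶ S} {f : X ⟶ S} {j : X ⟶ Y} [Etale j] {O T : P.Etale} {o : O ⟶ T}
  [IsOpenImmersion o.left] {R : Y.Etale}
  {X' : Scheme.{u}} {f' : X' ⟶ S} {j' : X' ⟶ Y} [Etale j']
  (G : GChart π f j o R) (G' : GChart π f' j' o R)
  (x : X' ⟶ X) (hx : x ≫ j = j') (hf : x ≫ f = f') (g : G'.W.left ⟶ G.W.left)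
  (hg1 : G'.i ≫ x = g ≫ G.i) (hg2 : g ≫ G.m.left = G'.m.left) (hg3 : g ≫ G.t = G'.t)
  (hU : ∀ z : R.left, z ∈ G'.U₀ → z ∈ G.U₀)

include hg2 in
omit [Etale j] [IsOpenImmersion o.left] [Etale j'] in
theorem mor_str : g ≫ str G.W = str G'.W := by
  change g ≫ G.W.hom = G'.W.hom
  rw [← left_hom G.m, ← left_hom G'.m, ← Category.assoc, hg2]

include hg3 in
omit [Etale j] [IsOpenImmersion o.left] [Etale j'] in
theorem mor_t : g ≫ G.t ≫ T.hom = G'.t ≫ T.hom := by
  rw [← Category.assoc, hg3]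

/-- The natural transformation attached to a morphism of charts. -/
def morNT : (efCF (G'.t ≫ T.hom) (str G'.W)).v ⟶ (efCF (G.t ≫ T.hom) (str G.W)).v :=
  xNT (G'.t ≫ T.hom) (str G'.W) (G.t ≫ T.hom) (str G.W) g (mor_str G G' g hg2)
    (mor_t G G' g hg3)

include hg1 in
theorem mor_compat (V : S.Etale) :
    (morNT G G' g hg2 hg3).app ((EtCoh.bc π).obj V) ≫ G.beta.app V =
      G'.beta.app V ≫ (xNT f' j' f j x hx hf).app V := by
  have bT : (G.beta.app V).left ≫ eT f j V =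
      eT (G.t ≫ T.hom) (str G.W) ((EtCoh.bc π).obj V) ≫ pr π V :=
    betaApp_eT π (G.t ≫ T.hom) (str G.W) f j G.i G.hi
      (G.comm.trans (Category.assoc _ _ _).symm) V
  have bW : (G.beta.app V).left ≫ eW f j V =
      eW (G.t ≫ T.hom) (str G.W) ((EtCoh.bc π).obj V) ≫ G.i :=
    betaApp_eW π (G.t ≫ T.hom) (str G.W) f j G.i G.hi
      (G.comm.trans (Category.assoc _ _ _).symm) V
  have bT' : (G'.beta.app V).left ≫ eT f' j' V =
      eT (G'.t ≫ T.hom) (str G'.W) ((EtCoh.bc π).obj V) ≫ pr π V :=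
    betaApp_eT π (G'.t ≫ T.hom) (str G'.W) f' j' G'.i G'.hi
      (G'.comm.trans (Category.assoc _ _ _).symm) V
  have bW' : (G'.beta.app V).left ≫ eW f' j' V =
      eW (G'.t ≫ T.hom) (str G'.W) ((EtCoh.bc π).obj V) ≫ G'.i :=
    betaApp_eW π (G'.t ≫ T.hom) (str G'.W) f' j' G'.i G'.hi
      (G'.comm.trans (Category.assoc _ _ _).symm) V
  have mT : ((morNT G G' g hg2 hg3).app ((EtCoh.bc π).obj V)).left ≫
      eT (G.t ≫ T.hom) (str G.W) ((EtCoh.bc π).obj V) =
      eT (G'.t ≫ T.hom) (str G'.W) ((EtCoh.bc π).obj V) :=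
    xApp_eT (G'.t ≫ T.hom) (str G'.W) (G.t ≫ T.hom) (str G.W) g (mor_str G G' g hg2)
      (mor_t G G' g hg3) _
  have mW : ((morNT G G' g hg2 hg3).app ((EtCoh.bc π).obj V)).left ≫
      eW (G.t ≫ T.hom) (str G.W) ((EtCoh.bc π).obj V) =
      eW (G'.t ≫ T.hom) (str G'.W) ((EtCoh.bc π).obj V) ≫ g :=
    xApp_eW (G'.t ≫ T.hom) (str G'.W) (G.t ≫ T.hom) (str G.W) g (mor_str G G' g hg2)
      (mor_t G G' g hg3) _
  have xT : ((xNT f' j' f j x hx hf).app V).left ≫ eT f j V = eT f' j' V :=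
    xApp_eT f' j' f j x hx hf V
  have xW : ((xNT f' j' f j x hx hf).app V).left ≫ eW f j V = eW f' j' V ≫ x :=
    xApp_eW f' j' f j x hx hf V
  apply e_hom_ext
  · calc ((morNT G G' g hg2 hg3).app ((EtCoh.bc π).obj V) ≫ G.beta.app V).left ≫ eT f j V
        = ((morNT G G' g hg2 hg3).app ((EtCoh.bc π).obj V)).left ≫
          (G.beta.app V).left ≫ eT f j V := Category.assoc _ _ _
      _ = ((morNT G G' g hg2 hg3).app ((EtCoh.bc π).obj V)).left ≫
          eT (G.t ≫ T.hom) (str G.W) ((EtCoh.bc π).obj V) ≫ pr π V := congrArg _ bT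
      _ = eT (G'.t ≫ T.hom) (str G'.W) ((EtCoh.bc π).obj V) ≫ pr π V :=
          (Category.assoc _ _ _).symm.trans (congrArg (· ≫ pr π V) mT)
      _ = (G'.beta.app V).left ≫ eT f' j' V := bT'.symm
      _ = (G'.beta.app V).left ≫ ((xNT f' j' f j x hx hf).app V).left ≫ eT f j V :=
          congrArg ((G'.beta.app V).left ≫ ·) xT.symm
      _ = (G'.beta.app V ≫ (xNT f' j' f j x hx hf).app V).left ≫ eT f j V :=
          (Category.assoc _ _ _).symm
  · calc ((morNT G G' g hg2 hg3).app ((EtCoh.bc π).obj V) ≫ G.beta.app V).left ≫ eW f j V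
        = ((morNT G G' g hg2 hg3).app ((EtCoh.bc π).obj V)).left ≫
          (G.beta.app V).left ≫ eW f j V := Category.assoc _ _ _
      _ = ((morNT G G' g hg2 hg3).app ((EtCoh.bc π).obj V)).left ≫
          eW (G.t ≫ T.hom) (str G.W) ((EtCoh.bc π).obj V) ≫ G.i := congrArg _ bW
      _ = (eW (G'.t ≫ T.hom) (str G'.W) ((EtCoh.bc π).obj V) ≫ g) ≫ G.i :=
          (Category.assoc _ _ _).symm.trans (congrArg (· ≫ G.i) mW)
      _ = (eW (G'.t ≫ T.hom) (str G'.W) ((EtCoh.bc π).obj V) ≫ G'.i) ≫ x :=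
          (Category.assoc _ _ _).trans ((congrArg
            (eW (G'.t ≫ T.hom) (str G'.W) ((EtCoh.bc π).obj V) ≫ ·) hg1.symm).trans
              (Category.assoc _ _ _).symm)
      _ = ((G'.beta.app V).left ≫ eW f' j' V) ≫ x := congrArg (· ≫ x) bW'.symm
      _ = (G'.beta.app V).left ≫ ((xNT f' j' f j x hx hf).app V).left ≫ eW f j V :=
          (Category.assoc _ _ _).trans (congrArg ((G'.beta.app V).left ≫ ·) xW.symm)
      _ = (G'.beta.app V ≫ (xNT f' j' f j x hx hf).app V).left ≫ eW f j V :=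
          (Category.assoc _ _ _).symm

include hg1 hg2 hg3 hU in
/-- **Functoriality of the class of a chart** (shrinking, and functoriality in `X`). -/
theorem cls_mor (M : EtCoh.Ab S) (N : ℕ) (c : Ext.{u + 1} (ZQ o) ((EtCoh.pull π).obj M) N) :
    G.cls M N c = (G'.cls M N c).comp (Ext.mk₀ (xM f' j' f j x hx hf M)) (add_zero N) := by
  have hle : G'.U₀ ≤ G.U₀ := fun z hz => hU z hz
  let ω : G'.W ⟶ G.W := MorphismProperty.Over.homMk g (mor_str G G' g hg2) trivial
  let ρ : opn R G'.U₀ ⟶ opn R G.U₀ := MorphismProperty.Over.homMk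
    (R.left.homOfLE hle) (by
      change R.left.homOfLE hle ≫ G.U₀.ι ≫ R.hom = G'.U₀.ι ≫ R.hom
      rw [← Category.assoc, Scheme.homOfLE_ι]) trivial
  have hω : ω ≫ G.m = G'.m := MorphismProperty.Over.Hom.ext hg2
  have hρ : ρ ≫ opnι R G.U₀ = opnι R G'.U₀ := MorphismProperty.Over.Hom.ext (by
    exact Scheme.homOfLE_ι _ hle)
  have hlam : G'.chart.lam ≫ (morNT G G' g hg2 hg3).app T = ω ≫ G.chart.lam := by
    have mT : ((morNT G G' g hg2 hg3).app T).left ≫ eT (G.t ≫ T.hom) (str G.W) T =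
      eT (G'.t ≫ T.hom) (str G'.W) T :=
      xApp_eT (G'.t ≫ T.hom) (str G'.W) (G.t ≫ T.hom) (str G.W) g (mor_str G G' g hg2)
        (mor_t G G' g hg3) _
    have mW : ((morNT G G' g hg2 hg3).app T).left ≫ eW (G.t ≫ T.hom) (str G.W) T =
      eW (G'.t ≫ T.hom) (str G'.W) T ≫ g :=
      xApp_eW (G'.t ≫ T.hom) (str G'.W) (G.t ≫ T.hom) (str G.W) g (mor_str G G' g hg2)
        (mor_t G G' g hg3) _
    apply e_hom_ext
    · refine (Category.assoc _ _ _).trans ?_
      refine (congrArg (G'.chart.lam.left ≫ ·) mT).trans ?_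
      refine G'.lam_eT.trans ?_
      symm
      refine (Category.assoc _ _ _).trans ?_
      exact (congrArg (g ≫ ·) G.lam_eT).trans hg3
    · refine (Category.assoc _ _ _).trans ?_
      refine (congrArg (G'.chart.lam.left ≫ ·) mW).trans ?_
      refine (Category.assoc _ _ _).symm.trans ?_
      refine (congrArg (· ≫ g) G'.lam_eW).trans ?_
      refine (Category.id_comp g).trans ?_
      symm
      refine (Category.assoc _ _ _).trans ?_
      exact (congrArg (g ≫ ·) G.lam_eW).trans (Category.comp_id g)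
  have h1 := H433.IdNT.fcl_res' (B := CF.id Y) (A := efCF (G.t ≫ T.hom) (str G.W))
    (A' := efCF (G'.t ≫ T.hom) (str G'.W)) (morNT G G' g hg2 hg3) G.chart G'.chart (𝟙 R)
    (Pi := pullCF π) (Fc := efCF f j) (Fc' := efCF f' j') G.beta G'.beta
    (xNT f' j' f j x hx hf) (fun V => mor_compat G G' x hx hf g hg1 hg2 hg3 V) ω
    ((Category.comp_id _).trans hω.symm) hlam ρ ((Category.comp_id _).trans hρ.symm) M N c
  have h2 := H433.IdNT.id_res (R := R) ((efCF f j).L.obj M) N (G.cls M N c)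
  exact h2.symm.trans h1

end GChart

end

end Groth.Agent.Etdl.H440.CF
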