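/-
Comparison of `CF.res` for inverse images with the pullback maps `HP`, `HPV` of `Etcore.Loc`, and of
`ZQ o` with `A / w_! w⁻¹ A`.
-/
import Groth.Agent.Etdl.H440.CFPull
import Groth.Agent.Etcore.Loc
import Groth.Agent.Etdl.H142.ResCok

set_option autoImplicit false
set_option linter.dupNamespace false
universe u
open CategoryTheory CategoryTheory.Limits AlgebraicGeometry Opposite Abelian
open Groth.Agent.Sga4B.DualShape Groth.Agent.Sga4B.EUConst
open Groth.Agent.EtpbcB.BCCalc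
open Groth.Agent.EtpbcA.OverSite (str)
open scoped Groth.Agent.Etcore.EtInst
open Groth.Agent.Etcore.EtInst
open Groth.Agent.Etcore.ExtMap (extMap extMap_apply)
open Groth.Agent.Etcore.Loc (one isGen_one ofSec app_ofSec HP HPV theta cmap)
open Groth.Agent.Etcore.LocSec (secPull)

namespace Groth.Agent.Etdl.H440.CF

noncomputable section

variable {X Y Z : Scheme.{u}}

/-! ### `ℤ[top] ≅ ℤ` -/

/-- `ℤ[Y] ≅ ℤ_Y`. -/
def tz (Y : Scheme.{u}) : ZS (EtCoh.top Y) ≅ EtCoh.const Y ℤ where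
  hom := sHom (one Y)
  inv := ofSec (isGen_one Y) (jun ℤ (EtCoh.top Y) 1)
  hom_inv_id := by
    apply ZS_hom_ext
    refine (congrArg ((ofSec (isGen_one Y) (jun ℤ (EtCoh.top Y) 1)).hom.app
      (op (EtCoh.top Y))) (sHom_jun (one Y))).trans ?_
    exact app_ofSec (isGen_one Y) _
  inv_hom_id := by
    apply Etcore.Loc.hext (isGen_one Y)
    refine (congrArg ((sHom (one Y)).hom.app (op (EtCoh.top Y)))
      (app_ofSec (isGen_one Y) (jun ℤ (EtCoh.top Y) 1))).trans ?_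
    exact sHom_jun (one Y)

theorem tz_hom (Y : Scheme.{u}) : (tz Y).hom = sHom (one Y) := rfl

/-- The projection `X ⟶ X ×_Y Y`. -/
abbrev tt (f : X ⟶ Y) : EtCoh.top X ⟶ (EtCoh.bc f).obj (EtCoh.top Y) := (EtCore.bcTopIso f).inv

theorem hom_bcTop_ext (f : X ⟶ Y) {R : X.Etale} (a b : R ⟶ (EtCoh.bc f).obj (EtCoh.top Y)) :
    a = b := (EtCore.bcTopIsTerminal f).hom_ext a b

theorem tz_cmap (f : X ⟶ Y) :
    (tz X).hom ≫ cmap (isGen_one X) f (tt f) (one Y) =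
      (pullCF f).sg (tt f) ≫ (EtCoh.pull f).map (tz Y).hom := by
  refine (sHom_comp _ _).trans ?_
  refine Eq.trans ?_ ((pullCF f).sg_map_sHom (tt f) (one Y)).symm
  exact congrArg sHom (Etcore.Loc.app_cmap (isGen_one X) f (tt f) (one Y))

/-- `HP` in terms of `CF.res`. -/
theorem mk₀_tz_HP (f : X ⟶ Y) (G : EtCoh.Ab Y) (n : ℕ)
    (x : Ext.{u + 1} (EtCoh.const Y ℤ) G n) :
    (Ext.mk₀ (tz X).hom).comp (HP f G n x) (zero_add n) =
      (pullCF f).res (tt f) G n ((Ext.mk₀ (tz Y).hom).comp x (zero_add n)) := by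
  rw [HP, Etcore.Loc.extPull_apply, CF.res_apply, Ext.mapExactFunctor_comp, Ext.mapExactFunctor_mk₀,
    ← Ext.comp_assoc_of_second_deg_zero, Ext.mk₀_comp_mk₀, tz_cmap, ← Ext.mk₀_comp_mk₀,
    Ext.comp_assoc_of_second_deg_zero]

/-! ### Composition isomorphisms -/

theorem kap_eq_compNT (f : X ⟶ Y) (t : Y ⟶ Z) (f₀ : X ⟶ Z) (w : f ≫ t = f₀) (V : Z.Etale) :
    (𝟙 ((EtCoh.bc f).obj ((EtCoh.bc t).obj V)) ≫ (EtCoh.bc f).map (𝟙 ((EtCoh.bc t).obj V)) ≫
      (Etcore.LocSec.kap f t V).hom ≫ eqToHom (by rw [w])) = (compNT t f f₀ w).app V := by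
  subst w
  rw [eqToHom_refl, CategoryTheory.Functor.map_id, Category.id_comp, Category.id_comp,
    Category.comp_id]
  apply hom_ext_bc (f ≫ t)
  refine Eq.trans ?_ (compNT_pr t f (f ≫ t) rfl V).symm
  exact Etcore.LocSec.kap_hom_left_fst f t V

theorem theta_eq_pc (f : X ⟶ Y) (t : Y ⟶ Z) (f₀ : X ⟶ Z) (w : f ≫ t = f₀) (G : EtCoh.Ab Z) :
    (theta f t w).hom.app G = pc t f f₀ w G := by
  apply CF.hom_ext ((pullCF t).comp (pullCF f))
  intro V m
  have e0 : ((pullCF t).comp (pullCF f)).un m = (pullCF f).un ((pullCF t).un m) :=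
    CF.comp_un _ _ m
  have h1 := Etcore.Loc.theta_secPull f t w (P := G) (V := V) m
    (𝟙 ((EtCoh.bc t).obj V)) (𝟙 ((EtCoh.bc f).obj ((EtCoh.bc t).obj V)))
  have h2 : (pc t f f₀ w G).hom.app (op (((pullCF t).comp (pullCF f)).v.obj V))
      (((pullCF t).comp (pullCF f)).un m) = ((EtCoh.pull f₀).obj G).obj.map
        ((compNT t f f₀ w).app V).op ((pullCF f₀).un m) :=
    CF.tr_un (compNT t f f₀ w) m
  have h3 : secPull t (𝟙 ((EtCoh.bc t).obj V)) G m = (pullCF t).un m := by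
    refine (Etcore.LocSec.secPull_apply _ _ _ _).trans ?_
    exact ConcreteCategory.congr_hom (((EtCoh.pull t).obj G).obj.map_id _) _
  have h4 : secPull f (𝟙 ((EtCoh.bc f).obj ((EtCoh.bc t).obj V))) ((EtCoh.pull t).obj G)
      (secPull t (𝟙 ((EtCoh.bc t).obj V)) G m) = (pullCF f).un ((pullCF t).un m) := by
    rw [h3]
    refine (Etcore.LocSec.secPull_apply _ _ _ _).trans ?_
    exact ConcreteCategory.congr_hom (((EtCoh.pull f).obj ((EtCoh.pull t).obj G)).obj.map_id _) _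
  refine Eq.trans ?_ h2.symm
  rw [kap_eq_compNT, h4] at h1
  rw [e0]
  exact h1

/-- `HPV` in terms of `CF.res`. -/
theorem mk₀_tz_HPV (f : X ⟶ Y) (t : Y ⟶ Z) (f₀ : X ⟶ Z) (w : f ≫ t = f₀) (G : EtCoh.Ab Z) (n : ℕ)
    (x : Ext.{u + 1} (EtCoh.const Y ℤ) ((EtCoh.pull t).obj G) n) :
    (Ext.mk₀ (tz X).hom).comp (HPV f t w G n x) (zero_add n) =
      ((pullCF f).res (tt f) _ n ((Ext.mk₀ (tz Y).hom).comp x (zero_add n))).comp
        (Ext.mk₀ (pc t f f₀ w G)) (add_zero n) := by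
  rw [Etcore.Loc.HPV_apply, ← mk₀_tz_HP, theta_eq_pc, Ext.comp_assoc_of_third_deg_zero]

end

end Groth.Agent.Etdl.H440.CF
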