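/-
Base change of `j_! f⁻¹ M` is an isomorphism for cartesian squares.
-/
import Groth.Agent.Etdl.H440.CFNat

set_option autoImplicit false
set_option linter.dupNamespace false
universe u
open CategoryTheory CategoryTheory.Limits AlgebraicGeometry Opposite Abelian
open Groth.Agent.Sga4B.DualShape Groth.Agent.Sga4B.EUConst
open Groth.Agent.EtpbcB.BCCalc
open Groth.Agent.EtpbcA.OverSite (str)
open scoped Groth.Agent.Etcore.EtInst
open Groth.Agent.Etcore.EtInst
open Groth.Agent.Etcore.ExtMap (extMap extMap_apply)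

namespace Groth.Agent.Etdl.H440.CF

noncomputable section

variable {X Y S Y' X' S' : Scheme.{u}} (s : S' ⟶ S)
  (f : X ⟶ S) (j : X ⟶ Y) [Etale j] (f' : X' ⟶ S') (j' : X' ⟶ Y') [Etale j']
  (r : Y' ⟶ Y) (x : X' ⟶ X) (hX : IsPullback x j' j r) (h2 : x ≫ f = f' ≫ s)

/-- `Y' ×_Y (X ×_S V) ⟶ X'`. -/
def psiX (V : S.Etale) : (((efCF f j).comp (pullCF r)).v.obj V).left ⟶ X' :=
  hX.lift (rW f j r V) (((efCF f j).comp (pullCF r)).v.obj V).hom (rW_w f j r V)

omit [Etale j'] in
theorem psiX_x (V : S.Etale) : psiX f j j' r x hX V ≫ x = rW f j r V := hX.lift_fst _ _ _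

omit [Etale j'] in
theorem psiX_j (V : S.Etale) : psiX f j j' r x hX V ≫ j' =
    (((efCF f j).comp (pullCF r)).v.obj V).hom := hX.lift_snd _ _ _

include h2 in
theorem psiV_aux (V : S.Etale) : rT f j r V ≫ V.hom = (psiX f j j' r x hX V ≫ f') ≫ s := by
  refine (r_w f j r V).trans ?_
  refine (congrArg (· ≫ f) (psiX_x f j j' r x hX V).symm).trans ?_
  refine (Category.assoc _ _ _).trans ?_
  refine (congrArg (psiX f j j' r x hX V ≫ ·) h2).trans ?_
  exact (Category.assoc _ _ _).symm

/-- `Y' ×_Y (X ×_S V) ⟶ S' ×_S V`. -/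
def psiV (V : S.Etale) : (((efCF f j).comp (pullCF r)).v.obj V).left ⟶
    ((EtCoh.bc s).obj V).left :=
  (isPullback_pr s V).lift (rT f j r V) (psiX f j j' r x hX V ≫ f')
    (psiV_aux s f j f' j' r x hX h2 V)

theorem psiV_pr (V : S.Etale) : psiV s f j f' j' r x hX h2 V ≫ pr s V = rT f j r V :=
  (isPullback_pr s V).lift_fst _ _ _

theorem psiV_hom (V : S.Etale) : psiV s f j f' j' r x hX h2 V ≫ ((EtCoh.bc s).obj V).hom =
    psiX f j j' r x hX V ≫ f' :=
  (isPullback_pr s V).lift_snd _ _ _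

/-- `Y' ×_Y (X ×_S V) ⟶ X' ×_{S'} (S' ×_S V)`. -/
def psi (V : S.Etale) : ((efCF f j).comp (pullCF r)).v.obj V ⟶
    (efCF f' j').v.obj ((EtCoh.bc s).obj V) :=
  eLift f' j' (psiX f j j' r x hX V) (psiX_j f j j' r x hX V) (psiV s f j f' j' r x hX h2 V)
    (psiV_hom s f j f' j' r x hX h2 V)

theorem psi_eT (V : S.Etale) : (psi s f j f' j' r x hX h2 V).left ≫ eT f' j' _ =
    psiV s f j f' j' r x hX h2 V :=
  eLift_eT f' j' _ (psiX_j f j j' r x hX V) _ (psiV_hom s f j f' j' r x hX h2 V)

theorem psi_eW (V : S.Etale) : (psi s f j f' j' r x hX h2 V).left ≫ eW f' j' _ =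
    psiX f j j' r x hX V :=
  eLift_eW f' j' _ (psiX_j f j j' r x hX V) _ (psiV_hom s f j f' j' r x hX h2 V)

theorem phi_psi (V : S.Etale) : (phiNT s f j f' j' r x hX.w h2).app V ≫
    psi s f j f' j' r x hX h2 V = 𝟙 _ := by
  have hT : ((phiNT s f j f' j' r x hX.w h2).app V).left ≫ rT f j r V =
      eT f' j' _ ≫ pr s V := thetaNT_rT s f' j' f j r x hX.w h2 V
  have hW : ((phiNT s f j f' j' r x hX.w h2).app V).left ≫ rW f j r V =
      eW f' j' _ ≫ x := thetaNT_rW s f' j' f j r x hX.w h2 V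
  have hXX : ((phiNT s f j f' j' r x hX.w h2).app V).left ≫ psiX f j j' r x hX V =
      eW f' j' _ := by
    apply hX.hom_ext
    · refine (Category.assoc _ _ _).trans ?_
      refine (congrArg (((phiNT s f j f' j' r x hX.w h2).app V).left ≫ ·)
        (psiX_x f j j' r x hX V)).trans ?_
      exact hW
    · refine (Category.assoc _ _ _).trans ?_
      refine (congrArg (((phiNT s f j f' j' r x hX.w h2).app V).left ≫ ·)
        (psiX_j f j j' r x hX V)).trans ?_
      refine (left_hom ((phiNT s f j f' j' r x hX.w h2).app V)).trans ?_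
      exact (eW_w f' j' _).symm
  apply e_hom_ext
  · refine (Category.assoc _ _ _).trans ?_
    refine (congrArg (((phiNT s f j f' j' r x hX.w h2).app V).left ≫ ·)
      (psi_eT s f j f' j' r x hX h2 V)).trans ?_
    refine Eq.trans ?_ (Category.id_comp _).symm
    apply (isPullback_pr s V).hom_ext
    · refine (Category.assoc _ _ _).trans ?_
      refine (congrArg (((phiNT s f j f' j' r x hX.w h2).app V).left ≫ ·)
        (psiV_pr s f j f' j' r x hX h2 V)).trans ?_
      exact hT
    · refine (Category.assoc _ _ _).trans ?_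
      refine (congrArg (((phiNT s f j f' j' r x hX.w h2).app V).left ≫ ·)
        (psiV_hom s f j f' j' r x hX h2 V)).trans ?_
      refine (Category.assoc _ _ _).symm.trans ?_
      refine (congrArg (· ≫ f') hXX).trans ?_
      exact (e_w f' j' ((EtCoh.bc s).obj V)).symm
  · refine (Category.assoc _ _ _).trans ?_
    refine (congrArg (((phiNT s f j f' j' r x hX.w h2).app V).left ≫ ·)
      (psi_eW s f j f' j' r x hX h2 V)).trans ?_
    exact hXX.trans (Category.id_comp _).symm

theorem psi_phi (V : S.Etale) : psi s f j f' j' r x hX h2 V ≫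
    (phiNT s f j f' j' r x hX.w h2).app V = 𝟙 _ := by
  have hT : ((phiNT s f j f' j' r x hX.w h2).app V).left ≫ rT f j r V =
      eT f' j' _ ≫ pr s V := thetaNT_rT s f' j' f j r x hX.w h2 V
  have hW : ((phiNT s f j f' j' r x hX.w h2).app V).left ≫ rW f j r V =
      eW f' j' _ ≫ x := thetaNT_rW s f' j' f j r x hX.w h2 V
  apply r_hom_ext f j r
  · refine (Category.assoc _ _ _).trans ?_
    refine (congrArg ((psi s f j f' j' r x hX h2 V).left ≫ ·) hT).trans ?_
    refine (Category.assoc _ _ _).symm.trans ?_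
    refine (congrArg (· ≫ pr s V) (psi_eT s f j f' j' r x hX h2 V)).trans ?_
    exact (psiV_pr s f j f' j' r x hX h2 V).trans (Category.id_comp _).symm
  · refine (Category.assoc _ _ _).trans ?_
    refine (congrArg ((psi s f j f' j' r x hX h2 V).left ≫ ·) hW).trans ?_
    refine (Category.assoc _ _ _).symm.trans ?_
    refine (congrArg (· ≫ x) (psi_eW s f j f' j' r x hX h2 V)).trans ?_
    exact (psiX_x f j j' r x hX V).trans (Category.id_comp _).symm

/-- **Base change of `j_! f⁻¹ M`.** -/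
theorem isIso_toPullS (M : EtCoh.Ab S) : IsIso (toPullS s f j f' j' r x hX.w h2 M) := by
  have h : ∀ V, IsIso ((phiNT s f j f' j' r x hX.w h2).app V) := fun V =>
    ⟨psi s f j f' j' r x hX h2 V, phi_psi s f j f' j' r x hX h2 V,
      psi_phi s f j f' j' r x hX h2 V⟩
  have h' : IsIso (phiNT s f j f' j' r x hX.w h2) := NatIso.isIso_of_isIso_app _
  exact isIso_tr (phiNT s f j f' j' r x hX.w h2) M

end

end Groth.Agent.Etdl.H440.CF
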