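/-
`ZQ o ≅ A / w_! w⁻¹ A` for an open immersion `w` and `A = ℤ`.
-/
import Groth.Agent.Etdl.H440.CFHpv

set_option autoImplicit false
set_option linter.dupNamespace false
universe u
open CategoryTheory CategoryTheory.Limits AlgebraicGeometry Opposite Abelian
open Groth.Agent.Sga4B.DualShape Groth.Agent.Sga4B.EUConst
open Groth.Agent.EtpbcB.BCCalc
open Groth.Agent.EtpbcA.OverSite (str)
open scoped Groth.Agent.Etcore.EtInst
open Groth.Agent.Etcore.EtInst
open Groth.Agent.Etcore.ExtMap (extMap extMap_apply)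
open Groth.Agent.Etcore.Loc (one isGen_one ofSec app_ofSec HP HPV theta cmap)
open Groth.Agent.Etcore.LocSec (secPull)
open Groth.Agent.Etdl.H142.LiftSupp (cok cokπ)
open Groth.Agent.Etdl.H142.ResCok (c_comp_eq_zero resCok cokπ_resCok)

namespace Groth.Agent.Etdl.H440.CF

noncomputable section

variable {O' Q : Scheme.{u}} (w : O' ⟶ Q) [IsOpenImmersion w] {O : Q.Etale}
  (o : O ⟶ EtCoh.top Q)

omit [IsOpenImmersion w] in
/-- Sections over `O` of a sheaf whose stalks at the points of `O'` vanish. -/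
theorem sect_eq_zero (h : Set.range o.left ⊆ Set.range w) {G : EtCoh.Ab Q}
    (hG : ∀ (Ω : Type u) [Field Ω] [IsSepClosed Ω] (ξ : Spec (CommRingCat.of Ω) ⟶ Q),
      ξ default ∈ Set.range w → IsZero ((EtCoh.stalk ξ).obj G))
    (s : EtCoh.sect G O) : s = 0 := by
  refine Etcore.Stalks.sect_ext s 0 fun x => ?_
  obtain ⟨Ω, _, _, ξ, hξ⟩ := Etcore.Stalks.exists_geom x
  refine ⟨Ω, inferInstance, inferInstance, ξ, hξ, fun t => ?_⟩
  have ht : t.left ≫ O.hom = ξ := Over.w t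
  have h1 : ξ default ∈ Set.range w := by
    apply h
    let t' : Spec (CommRingCat.of Ω) ⟶ O.left := t.left
    have h2 : o.left ≫ 𝟙 Q = O.hom := MorphismProperty.Over.w o
    have h3 : t' ≫ o.left = ξ :=
      (congrArg (t' ≫ ·) ((Category.comp_id o.left).symm.trans h2)).trans ht
    exact ⟨t' default, by rw [← h3]; rfl⟩
  have : Subsingleton ((EtCoh.stalk ξ).obj G) :=
    AddCommGrpCat.subsingleton_of_isZero (hG Ω ξ h1)
  exact Subsingleton.elim _ _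

omit [IsOpenImmersion w] in
/-- The inverse image of `ℤ[O]` generates: a section over `top` that vanishes on `O` has zero
inverse image on `O'`. -/
theorem secPull_eq_zero (l : O' ⟶ O.left) (hl : l ≫ O.hom = w) {G : EtCoh.Ab Q}
    (s : EtCoh.sect G (EtCoh.top Q)) (hs : G.obj.map o.op s = 0) :
    secPull w (tt w) G s = 0 := by
  have h1 : Etcore.LocSec.mkSec w O l hl ≫ (EtCoh.bc w).map o = tt w := hom_bcTop_ext w _ _
  rw [← h1, Etcore.LocSec.secPull_bc]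
  have h2 : Etcore.LocSec.res G o s = 0 := hs
  rw [h2, map_zero]

instance isIso_cmap_one : IsIso (cmap (isGen_one O') w (tt w) (one Q)) := by
  rw [← Etcore.Loc.pullConst_inv]
  infer_instance

omit [IsOpenImmersion w] in
/-- Morphisms out of the constant sheaf whose section vanishes on `O` vanish on `O'`. -/
theorem pull_map_eq_zero (l : O' ⟶ O.left) (hl : l ≫ O.hom = w) {G : EtCoh.Ab Q}
    (ψ : EtCoh.const Q ℤ ⟶ G)
    (hψ : G.obj.map o.op (ψ.hom.app (op (EtCoh.top Q)) (one Q)) = 0) :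
    (EtCoh.pull w).map ψ = 0 := by
  rw [← cancel_epi (cmap (isGen_one O') w (tt w) (one Q)), comp_zero, Etcore.Loc.cmap_map]
  have h1 : secPull w (tt w) G (Etcore.LocSec.app ψ (EtCoh.top Q) (one Q)) = 0 :=
    secPull_eq_zero w o l hl _ hψ
  rw [h1]
  apply Etcore.Loc.hext (isGen_one O')
  rw [app_ofSec]
  rfl

theorem c_comp_eq_zero' (l : O' ⟶ O.left) (hl : l ≫ O.hom = w) {G : EtCoh.Ab Q}
    (ψ : EtCoh.const Q ℤ ⟶ G)
    (hψ : G.obj.map o.op (ψ.hom.app (op (EtCoh.top Q)) (one Q)) = 0) :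
    Etcore.MVShriek.c w (EtCoh.const Q ℤ) ≫ ψ = 0 := by
  have h1 : (EtShriek.extZero w).map ((EtCoh.pull w).map ψ) ≫ Etcore.MVShriek.c w G =
      Etcore.MVShriek.c w (EtCoh.const Q ℤ) ≫ ψ :=
    (Etcore.MVShriek.adj w).counit.naturality ψ
  rw [← h1, pull_map_eq_zero w o l hl ψ hψ, Functor.map_zero, zero_comp]

theorem qs_eq : (tz Q).inv ≫ ZQπ o = ofSec (isGen_one Q) (qs o) := by
  rw [ZQπ_eq]
  apply Etcore.Loc.hext (isGen_one Q)
  refine Eq.trans ?_ (app_ofSec (isGen_one Q) _).symm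
  refine (congrArg ((sHom (qs o)).hom.app (op (EtCoh.top Q)))
    (app_ofSec (isGen_one Q) (jun ℤ (EtCoh.top Q) 1))).trans ?_
  exact sHom_jun (qs o)

/-- `A / w_! w⁻¹ A ⟶ ZQ o`. -/
def cokToZQ (l : O' ⟶ O.left) (hl : l ≫ O.hom = w) : cok w (EtCoh.const Q ℤ) ⟶ ZQ o :=
  cokernel.desc _ ((tz Q).inv ≫ ZQπ o) (c_comp_eq_zero' w o l hl _ (by
    rw [qs_eq]
    refine (congrArg ((ZQ o).obj.map o.op) (app_ofSec (isGen_one Q) (qs o))).trans ?_
    exact qs_res o))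

theorem cokπ_cokToZQ (l : O' ⟶ O.left) (hl : l ≫ O.hom = w) :
    cokπ w (EtCoh.const Q ℤ) ≫ cokToZQ w o l hl = (tz Q).inv ≫ ZQπ o := cokernel.π_desc _ _ _

/-- `ZQ o ⟶ A / w_! w⁻¹ A`. -/
def ZQToCok (h : Set.range o.left ⊆ Set.range w) : ZQ o ⟶ cok w (EtCoh.const Q ℤ) :=
  qHom o (((tz Q).hom ≫ cokπ w (EtCoh.const Q ℤ)).hom.app (op (EtCoh.top Q))
    (jun ℤ (EtCoh.top Q) 1)) (sect_eq_zero w o h (fun _ _ _ ξ hξ =>
      H142.ResCok.isZero_stalk_cok w _ ξ hξ) _)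

theorem ZQπ_ZQToCok (h : Set.range o.left ⊆ Set.range w) :
    ZQπ o ≫ ZQToCok w o h = (tz Q).hom ≫ cokπ w (EtCoh.const Q ℤ) :=
  (ZQπ_qHom o _ _).trans (eq_sHom _).symm

/-- **`ZQ o ≅ A / w_! w⁻¹ A`**. -/
def zqCok (l : O' ⟶ O.left) (hl : l ≫ O.hom = w) (h : Set.range o.left ⊆ Set.range w) :
    ZQ o ≅ cok w (EtCoh.const Q ℤ) where
  hom := ZQToCok w o h
  inv := cokToZQ w o l hl
  hom_inv_id := by
    rw [← cancel_epi (ZQπ o), ← Category.assoc, ZQπ_ZQToCok, Category.assoc, cokπ_cokToZQ,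
      Iso.hom_inv_id_assoc, Category.comp_id]
  inv_hom_id := by
    rw [← cancel_epi (cokπ w (EtCoh.const Q ℤ)), ← Category.assoc, cokπ_cokToZQ, Category.assoc,
      ZQπ_ZQToCok, Iso.inv_hom_id_assoc, Category.comp_id]

theorem ZQπ_zqCok_hom (l : O' ⟶ O.left) (hl : l ≫ O.hom = w)
    (h : Set.range o.left ⊆ Set.range w) :
    ZQπ o ≫ (zqCok w o l hl h).hom = (tz Q).hom ≫ cokπ w (EtCoh.const Q ℤ) := ZQπ_ZQToCok w o h

end

end Groth.Agent.Etdl.H440.CF
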