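/-
Restriction of classes in `Ext^N(ℤ[T]/ℤ[O], π⁻¹ M)` along base change, and its image in cohomology.
-/
import Groth.Agent.Etdl.H440.CFCok

set_option autoImplicit false
set_option linter.dupNamespace false
universe u
open CategoryTheory CategoryTheory.Limits AlgebraicGeometry Opposite Abelian
open Groth.Agent.Sga4B.DualShape Groth.Agent.Sga4B.EUConst
open Groth.Agent.EtpbcB.BCCalc
open Groth.Agent.EtpbcA.OverSite (str)
open scoped Groth.Agent.Etcore.EtInst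
open Groth.Agent.Etcore.EtInst
open Groth.Agent.Etcore.ExtMap (extMap extMap_apply)
open Groth.Agent.Etcore.Loc (one isGen_one ofSec app_ofSec HP HPV theta cmap)

namespace Groth.Agent.Etdl.H440.CF

noncomputable section

variable {P S P' S' : Scheme.{u}}

section pciso

variable {Y Y' Y'' : Scheme.{u}} (r : Y' ⟶ Y) (y : Y'' ⟶ Y') (r₀ : Y'' ⟶ Y) (w : y ≫ r = r₀)

instance isIso_pc (F : EtCoh.Ab Y) : IsIso (pc r y r₀ w F) := by
  rw [← theta_eq_pc]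
  infer_instance

/-- `y⁻¹ r⁻¹ F ≅ r₀⁻¹ F`. -/
def pcIso (F : EtCoh.Ab Y) : (EtCoh.pull y).obj ((EtCoh.pull r).obj F) ≅ (EtCoh.pull r₀).obj F :=
  asIso (pc r y r₀ w F)

theorem pc_nat {F G : EtCoh.Ab Y} (φ : F ⟶ G) :
    (EtCoh.pull y).map ((EtCoh.pull r).map φ) ≫ pc r y r₀ w G =
      pc r y r₀ w F ≫ (EtCoh.pull r₀).map φ := (CF.tr (compNT r y r₀ w)).naturality φ

end pciso

section kapZ

variable {A₀ : CF P P'} {O T : P.Etale} {o : O ⟶ T} {O' T' : P'.Etale} {o' : O' ⟶ T'}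

theorem ZQπ_kap (τ : T' ⟶ A₀.v.obj T) (τ₀ : O' ⟶ A₀.v.obj O)
    (hτ : τ₀ ≫ A₀.v.map o = o' ≫ τ) :
    ZQπ o' ≫ kap (A₀ := A₀) (o := o) τ τ₀ hτ = A₀.sg τ ≫ A₀.L.map (ZQπ o) := by
  refine (ZQπ_qHom o' _ _).trans ?_
  refine Eq.trans ?_ (congrArg (fun k => A₀.sg τ ≫ A₀.L.map k) (ZQπ_eq o)).symm
  exact (A₀.sg_map_sHom τ (qs o)).symm

end kapZ

/-- `a⁻¹ π⁻¹ M ⟶ π'⁻¹ s⁻¹ M`. -/
def epsM (π : P ⟶ S) (a : P' ⟶ P) (s : S' ⟶ S) (π' : P' ⟶ S') (w : π' ≫ s = a ≫ π)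
    (M : EtCoh.Ab S) : (EtCoh.pull a).obj ((EtCoh.pull π).obj M) ⟶
      (EtCoh.pull π').obj ((EtCoh.pull s).obj M) :=
  (CF.tr (epsNT π a s π' w)).app M

section rc

variable (π : P ⟶ S) (a : P' ⟶ P) (s : S' ⟶ S) (π' : P' ⟶ S') (w : π' ≫ s = a ≫ π)
  {O T : P.Etale} {o : O ⟶ T} {O' T' : P'.Etale} {o' : O' ⟶ T'}
  (τ : T' ⟶ (EtCoh.bc a).obj T) (τ₀ : O' ⟶ (EtCoh.bc a).obj O)
  (hτ : τ₀ ≫ (EtCoh.bc a).map o = o' ≫ τ)

/-- Restriction of classes with support. -/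
def rc (M : EtCoh.Ab S) (N : ℕ) (c : Ext.{u + 1} (ZQ o) ((EtCoh.pull π).obj M) N) :
    Ext.{u + 1} (ZQ o') ((EtCoh.pull π').obj ((EtCoh.pull s).obj M)) N :=
  (extMap (EtCoh.pull a) (kap (A₀ := pullCF a) (o := o) (o' := o') τ τ₀ hτ)
    ((EtCoh.pull π).obj M) N c).comp
      (Ext.mk₀ (epsM π a s π' w M)) (add_zero N)

/-- The underlying class. -/
theorem ZQπ_rc (M : EtCoh.Ab S) (N : ℕ) (c : Ext.{u + 1} (ZQ o) ((EtCoh.pull π).obj M) N) :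
    (Ext.mk₀ (ZQπ o')).comp (rc π a s π' w τ τ₀ hτ M N c) (zero_add N) =
      ((pullCF a).res τ ((EtCoh.pull π).obj M) N ((Ext.mk₀ (ZQπ o)).comp c (zero_add N))).comp
        (Ext.mk₀ (epsM π a s π' w M)) (add_zero N) := by
  have h1 := ZQπ_kap (A₀ := pullCF a) (o := o) (o' := o') τ τ₀ hτ
  unfold rc
  rw [← Ext.comp_assoc_of_third_deg_zero]
  congr 1
  rw [extMap_apply, CF.res_apply, Ext.mapExactFunctor_comp, Ext.mapExactFunctor_mk₀,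
    ← Ext.comp_assoc_of_second_deg_zero, Ext.mk₀_comp_mk₀, h1, ← Ext.mk₀_comp_mk₀,
    Ext.comp_assoc_of_second_deg_zero]

end rc

section eps

variable (π : P ⟶ S) (a : P' ⟶ P) (s : S' ⟶ S) (π' : P' ⟶ S') (w : π' ≫ s = a ≫ π)
  (s₀ : P' ⟶ S) (h1 : π' ≫ s = s₀) (h2 : a ≫ π = s₀)

theorem eps_comp_aux (V : S.Etale) : (epsNT π a s π' w).app V ≫ (compNT s π' s₀ h1).app V =
    (compNT π a s₀ h2).app V := by
  apply hom_ext_bc s₀
  refine (Category.assoc _ _ _).trans ?_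
  refine (congrArg (((epsNT π a s π' w).app V).left ≫ ·) (compNT_pr s π' s₀ h1 V)).trans ?_
  exact (epsNT_pr π a s π' w V).trans (compNT_pr π a s₀ h2 V).symm

theorem eps_pc (M : EtCoh.Ab S) :
    epsM π a s π' w M ≫ pc s π' s₀ h1 M = pc π a s₀ h2 M := by
  apply CF.hom_ext ((pullCF π).comp (pullCF a))
  intro V m
  have e1 := CF.tr_un (epsNT π a s π' w) m
  have e2 := CF.tr_un (compNT s π' s₀ h1) m
  have e3 := CF.tr_un (compNT π a s₀ h2) m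
  refine Eq.trans ?_ e3.symm
  refine (congrArg ((pc s π' s₀ h1 M).hom.app _) e1).trans ?_
  refine (ConcreteCategory.congr_hom ((pc s π' s₀ h1 M).hom.naturality
    ((epsNT π a s π' w).app V).op) _).trans ?_
  refine (congrArg (((EtCoh.pull s₀).obj M).obj.map ((epsNT π a s π' w).app V).op) e2).trans ?_
  refine (map_map _ _ _ _).trans ?_
  exact congrArg (fun (k : ((pullCF π).comp (pullCF a)).v.obj V ⟶ (EtCoh.bc s₀).obj V) =>
    ((EtCoh.pull s₀).obj M).obj.map k.op ((pullCF s₀).un m))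
      (eps_comp_aux π a s π' w s₀ h1 h2 V)

end eps

/-! ### The case of the whole scheme -/

section top

variable (π : P ⟶ S) (a : P' ⟶ P) (s : S' ⟶ S) (π' : P' ⟶ S') (w : π' ≫ s = a ≫ π)
  {O : P.Etale} {o : O ⟶ EtCoh.top P} {O' : P'.Etale} {o' : O' ⟶ EtCoh.top P'}
  (τ₀ : O' ⟶ (EtCoh.bc a).obj O)
  (hτ : τ₀ ≫ (EtCoh.bc a).map o = o' ≫ tt a)
  (s₀ : P' ⟶ S) (h1 : π' ≫ s = s₀) (h2 : a ≫ π = s₀)

/-- The underlying class of the restriction, in terms of `HPV`. -/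
theorem ZQπ_rc_pc (M : EtCoh.Ab S) (N : ℕ) (c : Ext.{u + 1} (ZQ o) ((EtCoh.pull π).obj M) N)
    (x : Ext.{u + 1} (EtCoh.const P ℤ) ((EtCoh.pull π).obj M) N)
    (hx : (Ext.mk₀ (ZQπ o)).comp c (zero_add N) = (Ext.mk₀ (tz P).hom).comp x (zero_add N)) :
    ((Ext.mk₀ (ZQπ o')).comp (rc π a s π' w (tt a) τ₀ hτ M N c) (zero_add N)).comp
      (Ext.mk₀ (pc s π' s₀ h1 M)) (add_zero N) =
      (Ext.mk₀ (tz P').hom).comp (HPV a π h2 M N x) (zero_add N) := by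
  rw [ZQπ_rc, hx, mk₀_tz_HPV, Ext.comp_assoc_of_third_deg_zero, Ext.mk₀_comp_mk₀,
    eps_pc π a s π' w s₀ h1 h2 M]

end top

end

end Groth.Agent.Etdl.H440.CF
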