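/-
Comparison of the pullback maps `HQ.res` with `CF.res`.
-/
import Groth.Agent.Etdl.H440.RC0
import Groth.Agent.Etcore.HQ

set_option autoImplicit false
set_option linter.dupNamespace false
universe u
open CategoryTheory CategoryTheory.Limits AlgebraicGeometry Opposite Abelian
open Groth.Agent.Sga4B.DualShape Groth.Agent.Sga4B.EUConst
open Groth.Agent.EtpbcB.BCCalc
open Groth.Agent.EtpbcA.OverSite (str)
open scoped Groth.Agent.Etcore.EtInst
open Groth.Agent.Etcore.EtInst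
open Groth.Agent.Etcore.ExtMap (extMap extMap_apply)
open Groth.Agent.Etcore.Loc (one isGen_one ofSec app_ofSec HP HPV theta cmap)
open Groth.Agent.Etcore.HpullCalc (hp hp_apply)

namespace Groth.Agent.Etdl.H440.CF

noncomputable section

variable {X Y Z : Scheme.{u}}

theorem hp_eq_HP (f : X ⟶ Y) [PreservesFiniteLimits (EtCoh.pull f)] (G : EtCoh.Ab Y) (n : ℕ)
    (x : HH Y G n) : hp f G n x = HP f G n x := by
  rw [hp_apply, Etcore.Loc.pullConst_inv]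
  rfl

theorem th_eq_theta (f : X ⟶ Y) (t : Y ⟶ Z) (f₀ : X ⟶ Z) (w : f ≫ t = f₀) (G : EtCoh.Ab Z) :
    Etcore.PullCoh.th f t f₀ w G = (theta f t w).hom.app G := rfl

theorem res_eq_HPV (F : EtCoh.Ab Z) (q : Y ⟶ Z) (q' : X ⟶ Z) (k : X ⟶ Y) (h : k ≫ q = q')
    (n : ℕ) (x : Etcore.HQ.HQ F q n) : Etcore.HQ.res F k h n x = HPV k q h F n x := by
  have i1 : PreservesFiniteLimits (EtCoh.pull k) := Groth.Agent.S0101.result k
  rw [Etcore.HQ.res_apply, hp_eq_HP]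
  rfl

/-- `HQ.res` in terms of `CF.res`. -/
theorem tz_res (F : EtCoh.Ab Z) (q : Y ⟶ Z) (q' : X ⟶ Z) (k : X ⟶ Y) (h : k ≫ q = q') (n : ℕ)
    (x : Etcore.HQ.HQ F q n) :
    (Ext.mk₀ (tz X).hom).comp (Etcore.HQ.res F k h n x) (zero_add n) =
      ((pullCF k).res (tt k) ((EtCoh.pull q).obj F) n
        ((Ext.mk₀ (tz Y).hom).comp x (zero_add n))).comp
        (Ext.mk₀ (pc q k q' h F)) (add_zero n) := by
  rw [res_eq_HPV]
  exact mk₀_tz_HPV k q q' h F n x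

/-- The class in `H^n(Y, F)` attached to a class in `Ext^n(ℤ[Y], F)`. -/
def toH (F : EtCoh.Ab Y) (n : ℕ) : Ext.{u + 1} (ZS (EtCoh.top Y)) F n →+ HH Y F n :=
  (Ext.mk₀ (tz Y).inv).precomp F (zero_add n)

theorem toH_apply (F : EtCoh.Ab Y) (n : ℕ) (x : Ext.{u + 1} (ZS (EtCoh.top Y)) F n) :
    toH F n x = (Ext.mk₀ (tz Y).inv).comp x (zero_add n) := rfl

theorem tz_toH (F : EtCoh.Ab Y) (n : ℕ) (x : Ext.{u + 1} (ZS (EtCoh.top Y)) F n) :
    (Ext.mk₀ (tz Y).hom).comp (toH F n x) (zero_add n) = x := by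
  rw [toH_apply, ← Ext.comp_assoc_of_second_deg_zero, Ext.mk₀_comp_mk₀, Iso.hom_inv_id,
    Ext.mk₀_id_comp]

theorem toH_tz (F : EtCoh.Ab Y) (n : ℕ) (x : HH Y F n) :
    toH F n ((Ext.mk₀ (tz Y).hom).comp x (zero_add n)) = x := by
  rw [toH_apply, ← Ext.comp_assoc_of_second_deg_zero, Ext.mk₀_comp_mk₀, Iso.inv_hom_id,
    Ext.mk₀_id_comp]

theorem toH_bijective (F : EtCoh.Ab Y) (n : ℕ) : Function.Bijective (toH F n) :=
  ⟨Function.LeftInverse.injective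
    (g := fun y => (Ext.mk₀ (tz Y).hom).comp y (zero_add n)) (tz_toH F n),
    fun x => ⟨_, toH_tz F n x⟩⟩

theorem toH_comp_mk₀ {F G : EtCoh.Ab Y} (φ : F ⟶ G) (n : ℕ)
    (x : Ext.{u + 1} (ZS (EtCoh.top Y)) F n) :
    toH G n (x.comp (Ext.mk₀ φ) (add_zero n)) = HHmap φ n (toH F n x) := by
  rw [toH_apply]
  exact (Ext.comp_assoc_of_third_deg_zero _ _ _ _).symm

/-- `HQ.res` in terms of `CF.res`. -/
theorem res_toH (F : EtCoh.Ab Z) (q : Y ⟶ Z) (q' : X ⟶ Z) (k : X ⟶ Y) (h : k ≫ q = q') (n : ℕ)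
    (x : Ext.{u + 1} (ZS (EtCoh.top Y)) ((EtCoh.pull q).obj F) n) :
    Etcore.HQ.res F k h n (toH _ n x) =
      toH _ n (((pullCF k).res (tt k) ((EtCoh.pull q).obj F) n x).comp
        (Ext.mk₀ (pc q k q' h F)) (add_zero n)) := by
  have h1 := tz_res F q q' k h n (toH _ n x)
  rw [tz_toH] at h1
  rw [← h1, toH_tz]

end

end Groth.Agent.Etdl.H440.CF
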