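/-
Gluing of local families of germs.
-/
import Groth.Agent.EtpbcB.BigFam

set_option autoImplicit false
set_option linter.dupNamespace false
set_option backward.isDefEq.respectTransparency.types false
universe u
open CategoryTheory CategoryTheory.Limits AlgebraicGeometry Opposite

namespace Groth.Agent.Etdl.H440.FamGlue

open Groth.Agent.EtpbcB.Big

/-- Every point is the image of an algebraically closed geometric point. -/
theorem exists_algPoint (Z : Scheme.{u}) (z : Z) :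
    ∃ (Ω : Type u) (_ : Field Ω) (_ : IsAlgClosed Ω) (l : Spec (.of Ω) ⟶ Z), l default = z := by
  let K := Z.residueField z
  let Ω := AlgebraicClosure K
  let a : Spec (.of Ω) ⟶ Spec K := Spec.map (CommRingCat.ofHom (algebraMap K Ω))
  refine ⟨Ω, inferInstance, inferInstance, a ≫ Z.fromSpecResidueField z, ?_⟩
  rw [Scheme.Hom.comp_apply]
  exact Scheme.fromSpecResidueField_apply z _

variable {X₀ Z : Scheme.{u}} {F : EtCoh.Ab X₀} {q : Z ⟶ X₀}

/-- Two local families which agree at the algebraically closed geometric points are equal. -/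
theorem eq_of_algPoint {v v' : Fam F q} (hv : IsLoc v) (hv' : IsLoc v')
    (h : ∀ (Ω : Type u) [Field Ω] [IsAlgClosed Ω] (l : Spec (.of Ω) ⟶ Z),
      v Ω l (l ≫ q) rfl = v' Ω l (l ≫ q) rfl) : v = v' := by
  apply eq_of_agree
  intro z
  obtain ⟨Ω, _, _, l, hl⟩ := exists_algPoint Z z
  rw [← hl]
  exact hv.mem_agree hv' l rfl (h Ω l)

/-- **Gluing of local families.** -/
theorem exists_glue {ι : Type*} (V : ι → Scheme.{u}) (a : ∀ i, V i ⟶ Z) [∀ i, Etale (a i)]
    (hcov : ∀ z : Z, ∃ i, ∃ y : V i, a i y = z) (v : ∀ i, Fam F (a i ≫ q))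
    (hv : ∀ i, IsLoc (v i))
    (hag : ∀ (i j : ι) (Ω : Type u) [Field Ω] [IsAlgClosed Ω] (l : Spec (.of Ω) ⟶ V i)
      (l' : Spec (.of Ω) ⟶ V j) (ξ : Spec (.of Ω) ⟶ X₀) (h : l ≫ a i ≫ q = ξ)
      (h' : l' ≫ a j ≫ q = ξ), l ≫ a i = l' ≫ a j → v i Ω l ξ h = v j Ω l' ξ h') :
    ∃ c : Fam F q, IsLoc c ∧ ∀ i, c.res (a i) rfl = v i := by
  -- agreement everywhere
  have key : ∀ (i j : ι) (Ω : Type u) [Field Ω] [IsSepClosed Ω] (l : Spec (.of Ω) ⟶ V i)
      (l' : Spec (.of Ω) ⟶ V j) (ξ : Spec (.of Ω) ⟶ X₀) (h : l ≫ a i ≫ q = ξ)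
      (h' : l' ≫ a j ≫ q = ξ), l ≫ a i = l' ≫ a j → v i Ω l ξ h = v j Ω l' ξ h' := by
    intro i j Ω _ _ l l' ξ h h' e
    let p1 := pullback.fst (a i) (a j)
    let p2 := pullback.snd (a i) (a j)
    have hc : p1 ≫ a i = p2 ≫ a j := pullback.condition
    have e2 : p2 ≫ a j ≫ q = p1 ≫ a i ≫ q := by
      rw [← Category.assoc, ← hc, Category.assoc]
    have h1 : (v i).res p1 (rfl : p1 ≫ a i ≫ q = _) = (v j).res p2 e2 := by
      apply eq_of_algPoint ((hv i).res p1 _) ((hv j).res p2 _)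
      intro Ω' _ _ m
      refine hag i j Ω' (m ≫ p1) (m ≫ p2) _ _ _ ?_
      rw [Category.assoc, Category.assoc, hc]
    let m : Spec (.of Ω) ⟶ pullback (a i) (a j) := pullback.lift l l' e
    have hm1 : m ≫ p1 = l := pullback.lift_fst _ _ _
    have hm2 : m ≫ p2 = l' := pullback.lift_snd _ _ _
    have h2 := Fam.congr_fun h1 m (ξ := ξ) (by rw [← Category.assoc, hm1, h])
    rw [Fam.res_apply, Fam.res_apply] at h2
    exact (((v i).congr hm1 _).symm.trans h2).trans ((v j).congr hm2 _)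
  choose I Y hY using hcov
  have hlift : ∀ (Ω : Type u) [Field Ω] [IsSepClosed Ω] (l : Spec (.of Ω) ⟶ Z),
      ∃ m : Spec (.of Ω) ⟶ V (I (l default)), m ≫ a _ = l := by
    intro Ω _ _ l
    obtain ⟨m, hm, -⟩ := exists_lift (a (I (l default))) l (Y (l default)) (hY _)
    exact ⟨m, hm⟩
  choose L hL using hlift
  let c : Fam F q := fun Ω _ _ l ξ h => v (I (l default)) Ω (L Ω l) ξ (by
    rw [← Category.assoc, hL, h])
  have hc : ∀ i, c.res (a i) rfl = v i := by
    intro i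
    ext Ω _ _ l ξ h
    refine key _ _ Ω _ _ ξ _ _ ?_
    exact hL Ω _
  refine ⟨c, ?_, hc⟩
  intro z
  obtain ⟨W, b, hb, w, U, d, hd, σ, hw, hσ⟩ := hv (I z) (Y z)
  refine ⟨W, b ≫ a (I z), inferInstance, w, U, d, ?_, σ, ?_, ?_⟩
  · rw [hd, Category.assoc]
  · rw [Scheme.Hom.comp_apply, hw, hY]
  · have h1 := congrArg (fun k : Fam F (a (I z) ≫ q) => k.res b rfl) (hc (I z))
    have h2 : c.res (b ≫ a (I z)) rfl = (c.res (a (I z)) rfl).res b
        (show b ≫ a (I z) ≫ q = (b ≫ a (I z)) ≫ q from (Category.assoc _ _ _).symm) :=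
      (Fam.res_res c (a (I z)) rfl b _).symm
    rw [h2, hc (I z)]
    ext Ω _ _ l ξ h
    have h3 := Fam.congr_fun hσ l (ξ := ξ) (by rw [← h, Category.assoc])
    exact h3

end Groth.Agent.Etdl.H440.FamGlue
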