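/-
Geometry of route C: the zero section of the iterated projective line, charts at a section.
Pure scheme theory.
-/
import Groth.Agent.Sga4B.IterP1
import Groth.Agent.Etbase.EtGlue

set_option autoImplicit false
universe u
open CategoryTheory CategoryTheory.Limits AlgebraicGeometry Opposite

namespace Groth.Agent.Etdl.H440.Geo

noncomputable section

/-- The index type of coordinates. -/
abbrev Ix (d : ℕ) : Type u := ULift.{u} (Fin d)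

/-! ### The zero section of `(ℙ¹)^d` -/

/-- The zero section. -/
def zs (S : Scheme.{u}) (d : ℕ) : S ⟶ Sga4B.IterP1.P S d :=
  AffineSpace.homOfVector (𝟙 S) (fun _ : Ix.{u} d => (0 : Γ(S, ⊤))) ≫ Sga4B.IterP1.aff S d

theorem zs_toBase (S : Scheme.{u}) (d : ℕ) : zs S d ≫ Sga4B.IterP1.toBase S d = 𝟙 S := by
  unfold zs
  rw [Category.assoc, Sga4B.IterP1.aff_toBase, AffineSpace.homOfVector_over]

instance (S : Scheme.{u}) (d : ℕ) : IsClosedImmersion (zs S d) := by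
  have h : IsClosedImmersion (zs S d ≫ Sga4B.IterP1.toBase S d) := by
    rw [zs_toBase]
    infer_instance
  exact IsClosedImmersion.of_comp (zs S d) (Sga4B.IterP1.toBase S d)

/-- The complement of the zero section. -/
def OO (S : Scheme.{u}) (d : ℕ) : (Sga4B.IterP1.P S d).Opens :=
  ⟨(Set.range (zs S d))ᶜ, (zs S d).isClosedEmbedding.isClosed_range.isOpen_compl⟩

/-- `P ×_S V` as an étale `P`-scheme. -/
abbrev TT (S : Scheme.{u}) (d : ℕ) (V : S.Etale) : (Sga4B.IterP1.P S d).Etale :=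
  (EtCoh.bc (Sga4B.IterP1.toBase S d)).obj V

/-- The complement of the zero section in `P ×_S V`. -/
abbrev OT (S : Scheme.{u}) (d : ℕ) (V : S.Etale) : (Sga4B.IterP1.P S d).Etale :=
  Etbase.EtGlue.opn (TT S d V) ((TT S d V).hom ⁻¹ᵁ OO S d)

/-- The inclusion `P ×_S V - 0 ⟶ P ×_S V`. -/
abbrev oo (S : Scheme.{u}) (d : ℕ) (V : S.Etale) : OT S d V ⟶ TT S d V :=
  Etbase.EtGlue.opnι _ _

/-! ### Charts at a section -/

/-- A chart at a section. `X ⟶ Y` (étale in practice), `T ⟶ S`; `W` is open in `X ×_S T`, with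
`d` functions `c l`; `σ : T ⟶ W` a section; `σ(T)` is the zero locus of the `c l`, and `W ⟶ Y ×_S T`
is injective near `σ(T)`. -/
structure SChart {S X Y T : Scheme.{u}} (p : Y ⟶ S) (j : X ⟶ Y) (d : ℕ) (τ : T ⟶ S) where
  /-- the chart -/
  W : Scheme.{u}
  /-- `W ⟶ X` -/
  i : W ⟶ X
  /-- `W ⟶ T` -/
  v : W ⟶ T
  hv : v ≫ τ = i ≫ j ≫ p
  io : IsOpenImmersion (pullback.lift (f := j ≫ p) (g := τ) i v hv.symm)
  /-- the coordinates -/
  c : Ix.{u} d → Γ(W, ⊤)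
  /-- the section -/
  σ : T ⟶ W
  σv : σ ≫ v = 𝟙 T
  σc : ∀ l, σ.appTop (c l) = 0
  uniq : ∀ z : W, (∀ l, z ∉ W.basicOpen (c l)) → z ∈ Set.range σ
  uniqY : ∀ z z' : W, z' ∈ Set.range σ →
    pullback.lift (f := p) (g := τ) (i ≫ j) v (by rw [Category.assoc, hv]) z =
      pullback.lift (f := p) (g := τ) (i ≫ j) v (by rw [Category.assoc, hv]) z' → z = z'

namespace SChart

variable {S X Y T : Scheme.{u}} {p : Y ⟶ S} {j : X ⟶ Y} {d : ℕ} {τ : T ⟶ S}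

/-- The coordinates are étale over `T`. -/
def Et (C : SChart p j d τ) : Prop := Etale (AffineSpace.homOfVector C.v C.c)

/-- Morphisms of charts over base changes `s : S' ⟶ S`, `ν : T' ⟶ T`, `r : Y' ⟶ Y`,
`x : X' ⟶ X`. -/
structure Hom {S' X' Y' T' : Scheme.{u}} {p' : Y' ⟶ S'} {j' : X' ⟶ Y'} {τ' : T' ⟶ S'}
    (C' : SChart p' j' d τ') (C : SChart p j d τ) (x : X' ⟶ X) (ν : T' ⟶ T) where
  /-- the morphism -/
  g : C'.W ⟶ C.W
  gi : g ≫ C.i = C'.i ≫ x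
  gv : g ≫ C.v = C'.v ≫ ν
  gc : ∀ l, g.appTop (C.c l) = C'.c l
  gσ : C'.σ ≫ g = ν ≫ C.σ

/-- Two charts over a field, at points, which belong to one irreducible family. -/
def FamConn {k : Type u} [Field k] {X Y : Scheme.{u}} {p : Y ⟶ Spec (CommRingCat.of k)}
    {j : X ⟶ Y} {d : ℕ} (C₁ C₂ : SChart p j d (𝟙 (Spec (CommRingCat.of k)))) : Prop :=
  ∃ (T : Scheme.{u}) (τ : T ⟶ Spec (CommRingCat.of k)) (_ : LocallyOfFiniteType τ)
    (_ : IrreducibleSpace T) (C : SChart p j d τ) (t₁ t₂ : Spec (CommRingCat.of k) ⟶ T)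
    (_ : t₁ ≫ τ = 𝟙 _) (_ : t₂ ≫ τ = 𝟙 _),
    Nonempty (C₁.Hom C (𝟙 X) t₁) ∧ Nonempty (C₂.Hom C (𝟙 X) t₂)

end SChart

/-! ### Statements about charts -/

/-- **(RK)** Translation to the section, and removal of the superfluous zeros. -/
def StmtRK : Prop :=
  ∀ {S X Y T : Scheme.{u}} (p : Y ⟶ S) [IsSeparated p] (j : X ⟶ Y) [Etale j] (d : ℕ) (τ : T ⟶ S)
    (W : Scheme.{u}) (i : W ⟶ X) (v : W ⟶ T) [IsSeparated v] (hv : v ≫ τ = i ≫ j ≫ p)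
    (_ : IsOpenImmersion (pullback.lift (f := j ≫ p) (g := τ) i v hv.symm))
    (c : Ix.{u} d → Γ(W, ⊤)) (_ : Etale (AffineSpace.homOfVector v c))
    (σ : T ⟶ W) (_ : σ ≫ v = 𝟙 T),
    ∃ (C : SChart p j d τ) (_ : C.Et) (g : C.W ⟶ W) (_ : IsOpenImmersion g),
      g ≫ i = C.i ∧ g ≫ v = C.v ∧ C.σ ≫ g = σ ∧
        (∀ l, C.c l = g.appTop (c l - v.appTop (σ.appTop (c l)))) ∧
        ∀ z : W, ((∀ l, z ∉ W.basicOpen (c l - v.appTop (σ.appTop (c l)))) → z ∈ Set.range σ) →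
          (∀ z' ∈ Set.range σ,
            pullback.lift (f := p) (g := τ) (i ≫ j) v (by rw [Category.assoc, hv]) z =
            pullback.lift (f := p) (g := τ) (i ≫ j) v (by rw [Category.assoc, hv]) z' →
              z ∈ Set.range σ) → z ∈ Set.range g

/-- **(R2)** Étale charts exist, Zariski locally on `T`, at every section of a smooth morphism. -/
def StmtR2 : Prop :=
  ∀ {S X Y T : Scheme.{u}} (p : Y ⟶ S) [IsSeparated p] (j : X ⟶ Y) [Etale j] (d : ℕ)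
    [SmoothOfRelativeDimension d (j ≫ p)] (τ : T ⟶ S) (σ : T ⟶ X) (_ : σ ≫ j ≫ p = τ) (t : T),
    ∃ (T' : T.Opens) (_ : t ∈ T') (C : SChart p j d (T'.ι ≫ τ)) (_ : C.Et),
      C.σ ≫ C.i = T'.ι ≫ σ

/-- **(BC)** Base change of charts. -/
def StmtBC : Prop :=
  ∀ {S X Y T S' X' Y' T' : Scheme.{u}} {p : Y ⟶ S} {j : X ⟶ Y} [Etale j] {d : ℕ} {τ : T ⟶ S}
    {p' : Y' ⟶ S'} {j' : X' ⟶ Y'} {τ' : T' ⟶ S'} (s : S' ⟶ S) (r : Y' ⟶ Y) (x : X' ⟶ X)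
    (ν : T' ⟶ T) (_ : IsPullback r p' p s) (_ : IsPullback x j' j r) (_ : ν ≫ τ = τ' ≫ s)
    (C : SChart p j d τ),
    ∃ (C' : SChart p' j' d τ') (_ : Nonempty (C'.Hom C x ν)), C.Et → C'.Et

/-- **(M)** Moving the point. -/
def StmtM : Prop :=
  ∀ {k : Type u} [Field k] [IsAlgClosed k] {X Y : Scheme.{u}} (p : Y ⟶ Spec (CommRingCat.of k))
    [LocallyOfFiniteType p] [IsSeparated p] (j : X ⟶ Y) [Etale j] (d : ℕ)
    (W : Scheme.{u}) [IrreducibleSpace W] (i : W ⟶ X) [IsOpenImmersion i]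
    [IsSeparated (i ≫ j ≫ p)] (c : Ix.{u} d → Γ(W, ⊤))
    (_ : Etale (AffineSpace.homOfVector (i ≫ j ≫ p) c))
    (C₁ C₂ : SChart p j d (𝟙 (Spec (CommRingCat.of k))))
    (g₁ : C₁.W ⟶ W) (_ : g₁ ≫ i = C₁.i)
    (_ : ∀ l, C₁.c l = g₁.appTop (c l - (i ≫ j ≫ p).appTop ((C₁.σ ≫ g₁).appTop (c l))))
    (g₂ : C₂.W ⟶ W) (_ : g₂ ≫ i = C₂.i)
    (_ : ∀ l, C₂.c l = g₂.appTop (c l - (i ≫ j ≫ p).appTop ((C₂.σ ≫ g₂).appTop (c l)))),
    C₁.FamConn C₂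

/-- **(H)** Changing the coordinates at a fixed point of an affine chart: `b = N a`,
`T = D(det ((1 - t) + t N(x))) ⊆ 𝔸¹`, `(z, t) ↦ ((1 - t) + t N(z)) a(z)` on
`D(det ((1 - t) + t N(z))) ⊆ W × T`; `C₂'` is the restriction of `C₂` to `D(det N)`. -/
def StmtH : Prop :=
  ∀ {k : Type u} [Field k] [IsAlgClosed k] {X Y : Scheme.{u}} (p : Y ⟶ Spec (CommRingCat.of k))
    [LocallyOfFiniteType p] [IsSeparated p] (j : X ⟶ Y) [Etale j] (d : ℕ)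
    (C₁ C₂ : SChart p j d (𝟙 (Spec (CommRingCat.of k)))) (_ : C₁.Et) (_ : C₂.Et)
    (_ : IsAffine C₁.W) (e : C₁.W ≅ C₂.W) (_ : e.hom ≫ C₂.i = C₁.i) (_ : C₁.σ ≫ e.hom = C₂.σ),
    ∃ (C₂' : SChart p j d (𝟙 (Spec (CommRingCat.of k)))) (g : C₂'.W ⟶ C₂.W),
      g ≫ C₂.i = C₂'.i ∧ C₂'.σ ≫ g = C₂.σ ∧ (∀ l, C₂'.c l = g.appTop (C₂.c l)) ∧
        C₁.FamConn C₂'

/-- **(PM)** Functoriality of `(ℙ¹_S)^d` in `S`. -/
def StmtPM : Prop :=
  ∀ {S' S : Scheme.{u}} (s : S' ⟶ S) (d : ℕ),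
    ∃ a : Sga4B.IterP1.P S' d ⟶ Sga4B.IterP1.P S d,
      IsPullback a (Sga4B.IterP1.toBase S' d) (Sga4B.IterP1.toBase S d) s ∧
      AffineSpace.map (Ix.{u} d) s ≫ Sga4B.IterP1.aff S d = Sga4B.IterP1.aff S' d ≫ a

end

end Groth.Agent.Etdl.H440.Geo
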