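/-
Interface statements of route C (sheaf side).
-/
import Groth.Agent.Etdl.H440.Geo
import Groth.Agent.Etdl.H440.CFBC
import Groth.Agent.Sga4B.DualWBasic
import Groth.Agent.Sga4B.RpushSec930
import Groth.Prelude.Def_EtDual

set_option autoImplicit false
set_option linter.dupNamespace false
universe u
open CategoryTheory CategoryTheory.Limits AlgebraicGeometry Opposite Abelian
open Groth.Agent.Sga4B.DualShape Groth.Agent.Sga4B.EUConst
open Groth.Agent.EtpbcB.BCCalc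
open scoped Groth.Agent.Etcore.EtInst
open Groth.Agent.Etcore.EtInst
open Groth.Agent.Etdl.H440.CF

namespace Groth.Agent.Etdl.H440.Iface

noncomputable section

/-- The section of `R^q f_* F` over `V` attached to a class in `Ext^q(ℤ[V ×_Y X], F)`. -/
def sec {X Y : Scheme.{u}} (f : X ⟶ Y) (q : ℕ) (F : EtCoh.Ab X) (V : Y.Etale) :
    Ext.{u + 1} (ZS ((EtCoh.bc f).obj V)) F q →+ EtCoh.sect ((EtCoh.Rpush f q).obj F) V :=
  (Sga4B.RpushSec930.sec f q F V).comp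
    ((Ext.mk₀ ((Sga4B.DualWBasic.zfIso X).hom.app ((EtCoh.bc f).obj V))).precomp F (zero_add q))

/-- **(B)** The universal class. `E = π⁻¹ (ℤ/n)(d)` on `(ℙ¹_S)^d`; `κ` is a global section of
`R^{2d} π_* E`, generating it with annihilator `n`, which comes étale-locally on `S` from a class
with support in the zero section. -/
def StmtUniv (S : Scheme.{u}) (d n : ℕ) : Prop :=
  ∃ κ : ∀ V : S.Etale, EtCoh.sect ((EtCoh.Rpush (Sga4B.IterP1.toBase S d) (2 * d)).obj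
      ((EtCoh.pull (Sga4B.IterP1.toBase S d)).obj (EtDual.tate S n d))) V,
    (∀ {U V : S.Etale} (g : V ⟶ U), ((EtCoh.Rpush (Sga4B.IterP1.toBase S d) (2 * d)).obj
      ((EtCoh.pull (Sga4B.IterP1.toBase S d)).obj (EtDual.tate S n d))).obj.map g.op (κ U) =
        κ V) ∧
    (∀ (V : S.Etale) (_ : V.left) (m : ℤ), m • κ V = 0 → (n : ℤ) ∣ m) ∧
    ∀ s : S, ∃ (V : S.Etale) (_ : s ∈ Set.range V.hom)
      (u : Ext.{u + 1} (ZQ (Geo.oo S d V))
        ((EtCoh.pull (Sga4B.IterP1.toBase S d)).obj (EtDual.tate S n d)) (2 * d)),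
      sec (Sga4B.IterP1.toBase S d) (2 * d) _ V
        ((Ext.mk₀ (ZQπ (Geo.oo S d V))).comp u (zero_add (2 * d))) = κ V

/-- **(E)** Étale excision. -/
def StmtExc : Prop :=
  ∀ {W P : Scheme.{u}} (q : W ⟶ P) [Etale q] {O T : P.Etale} (o : O ⟶ T)
    [IsOpenImmersion o.left] (ρ : (EtShriek.compEtale q).obj ((EtCoh.bc q).obj T) ⟶ T)
    (_ : ρ.left = pr q T)
    (_ : ∀ z : T.left, z ∈ Set.range o.left ∨ z ∈ Set.range ρ.left)
    (_ : ∀ (U : P.Etale) (a b : U ⟶ (EtShriek.compEtale q).obj ((EtCoh.bc q).obj T)),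
      a ≫ ρ = b ≫ ρ → ∀ z : U.left, ∃ (V : P.Etale) (g : V ⟶ U), z ∈ Set.range g.left ∧
        (g ≫ a = g ≫ b ∨ ∀ y, (g ≫ a ≫ ρ).left y ∈ Set.range o.left))
    (E : EtCoh.Ab P) (N : ℕ),
    Function.Bijective (fun u : Ext.{u + 1} (ZQ o) E N =>
      (u.mapExactFunctor (EtCoh.pull q) :
        Ext.{u + 1} ((EtCoh.pull q).obj (ZQ o)) ((EtCoh.pull q).obj E) N))

/-- **(A1)** Duality at a point: `w : W ⟶ Y` étale, `Y` proper over `k`, `W` connected smooth of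
dimension `d`, `x` the only point of `W` over `w x`; `s ∈ Γ(Y, w_! (ℤ_W / ℤ[W - x]))` the canonical
section. -/
def StmtA1 : Prop :=
  ∀ {k : Type u} [Field k] [IsAlgClosed k] {Y W : Scheme.{u}}
    (p : Y ⟶ Spec (CommRingCat.of k)) [IsProper p] (w : W ⟶ Y) [Etale w] [IsSeparated w]
    [QuasiCompact w] (d : ℕ) [SmoothOfRelativeDimension d (w ≫ p)] [ConnectedSpace W] (n : ℕ)
    (_ : 0 < n) (_ : (n : k) ≠ 0)
    (E : EtCoh.Ab W) (_ : Nonempty (E ≅ EtCoh.const W (ZMod n))) (x : Spec (CommRingCat.of k) ⟶ W)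
    (_ : x ≫ w ≫ p = 𝟙 _) (_ : ∀ z : W, w z ∈ Set.range (x ≫ w) → z ∈ Set.range x)
    {O T : W.Etale} (o : O ⟶ T) [IsOpenImmersion o.left] (_ : IsIso T.hom)
    (_ : ∀ z : T.left, z ∈ Set.range o.left ↔ T.hom z ∉ Set.range x)
    (m : (EtShriek.compEtale w).obj T ⟶ EtCoh.top Y)
    (s : EtCoh.sect ((EtShriek.extZero w).obj (ZQ o)) (EtCoh.top Y))
    (_ : ((EtShriek.extZero w).obj (ZQ o)).obj.map m.op s = (shCF w).un (qs o)),
    Function.Bijective (fun u : Ext.{u + 1} (ZQ o) E (2 * d) =>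
      ((Ext.mk₀ (sHom s)).comp (u.mapExactFunctor (EtShriek.extZero w)) (zero_add (2 * d)) :
        Ext.{u + 1} (ZS (EtCoh.top Y)) ((EtShriek.extZero w).obj E) (2 * d)))

/-- **(A2)** -/
def StmtA2 : Prop :=
  ∀ {k : Type u} [Field k] [IsAlgClosed k] {Y W : Scheme.{u}}
    (p : Y ⟶ Spec (CommRingCat.of k)) [IsProper p] (w : W ⟶ Y) [Etale w] [IsSeparated w]
    [QuasiCompact w] (d : ℕ) [SmoothOfRelativeDimension d (w ≫ p)] [ConnectedSpace W] (n : ℕ)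
    (_ : 0 < n) (_ : (n : k) ≠ 0)
    (E : EtCoh.Ab W) (_ : Nonempty (E ≅ EtCoh.const W (ZMod n))),
    Nonempty (Ext.{u + 1} (ZS (EtCoh.top Y)) ((EtShriek.extZero w).obj E) (2 * d) ≃+ ZMod n)

/-- **(A3)** `w_! q⁻¹ π⁻¹ M ⟶ j_! f⁻¹ M` is surjective on `H^{2d}(Y, -)` if `W` is a non-empty open
subscheme of the irreducible `X`. -/
def StmtA3 : Prop :=
  ∀ {k : Type u} [Field k] [IsAlgClosed k] {X Y W P S : Scheme.{u}}
    (p : Y ⟶ Spec (CommRingCat.of k)) [IsProper p] (w : W ⟶ Y) [Etale w] (j : X ⟶ Y) [Etale j]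
    [IsSeparated j] [QuasiCompact j] (d : ℕ) [SmoothOfRelativeDimension d (j ≫ p)]
    [IrreducibleSpace X] [Nonempty W] (i : W ⟶ X) [IsOpenImmersion i] (h1 : i ≫ j = w)
    (π : P ⟶ S) (q : W ⟶ P) (f : X ⟶ S) (h2 : i ≫ f = q ≫ π) (n : ℕ)
    (_ : 0 < n) (_ : (n : k) ≠ 0) (M : EtCoh.Ab S) (_ : EtCoh.KilledBy n M),
    Function.Surjective (fun e : Ext.{u + 1} (ZS (EtCoh.top Y))
        ((efCF q w).L.obj ((EtCoh.pull π).obj M)) (2 * d) =>
      (e.comp (Ext.mk₀ ((CF.tr (betaNT π q w f j i h1 h2)).app M)) (add_zero (2 * d)) :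
        Ext.{u + 1} (ZS (EtCoh.top Y)) ((efCF f j).L.obj M) (2 * d)))

end

end Groth.Agent.Etdl.H440.Iface
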